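import Mathlib
import Cfsg.Agent.Mrg.Omega.KL.Mor
import Cfsg.Agent.Mrg.Omega.KL.Def
import Cfsg.Agent.Mrg.Omega.IId.BSTrick

-- merged: Cfsg.Agent.Omega.KL.ThmIq
section

/-!
# THEOREM I(q) (helper918 #24006 (4)), abstract

`P` acts on the elementary abelian group `M` (written additively), `V` is a natural `SL₂(q)`-module in `M` (field
automorphisms allowed), `Z₂ = C_V(A)`, `|Z₂| = q`, a line normalised by `S`; `Z₁` is normalised by `P` and centralised by
`A ≤ S`, which induces the full root group on `V` and is exact on `M`.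
If `[r, S] ≤ Z₁ + Z₂` then some `c ∈ r + V` is centralised by `⟨A^P⟩`, and `[c, S] ≤ Z₁` (`Dat.exists_c`).
-/

set_option autoImplicit false
set_option linter.unusedSectionVars false

namespace Cfsg.Agent.Omega.KL.ThmIq

variable {P M : Type*} [Group P] [AddCommGroup M] [DistribMulAction P M]

/-- The fixed points of a subgroup. -/
def fx (M : Type*) [AddCommGroup M] [DistribMulAction P M] (B : Subgroup P) : AddSubgroup M where
  carrier := {m | ∀ b ∈ B, b • m = m}
  zero_mem' := fun b _ => smul_zero b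
  add_mem' := fun {x y} hx hy b hb => by rw [smul_add, hx b hb, hy b hb]
  neg_mem' := fun {x} hx b hb => by rw [smul_neg, hx b hb]

theorem mem_fx {B : Subgroup P} {m : M} : m ∈ fx M B ↔ ∀ b ∈ B, b • m = m := Iff.rfl

/-- The pointwise stabiliser. -/
def cV (V : AddSubgroup M) : Subgroup P where
  carrier := {g | ∀ v ∈ V, g • v = v}
  one_mem' := fun v _ => one_smul P v
  mul_mem' := fun {x y} hx hy v hv => by rw [mul_smul, hy v hv, hx v hv]
  inv_mem' := fun {x} hx v hv => by rw [inv_smul_eq_iff, hx v hv]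

theorem mem_cV {V : AddSubgroup M} {g : P} : g ∈ (cV V : Subgroup P) ↔ ∀ v ∈ V, g • v = v := Iff.rfl

theorem card_mul_relIndex {H K : AddSubgroup M} (h : H ≤ K) : Nat.card H * H.relIndex K = Nat.card K := by
  have := AddSubgroup.relIndex_mul_relIndex ⊥ H K bot_le h
  rwa [AddSubgroup.relIndex_bot_left, AddSubgroup.relIndex_bot_left] at this

theorem card_mul_relIndex' {H K : Subgroup P} (h : H ≤ K) : Nat.card H * H.relIndex K = Nat.card K := by
  have := Subgroup.relIndex_mul_relIndex ⊥ H K bot_le h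
  rwa [Subgroup.relIndex_bot_left, Subgroup.relIndex_bot_left] at this

/-- The data of THEOREM I(q). No field automorphisms: `E = ⊤`. -/
structure Dat (V Z1 Z2 : AddSubgroup M) (S A E : Subgroup P) : Prop where
  two : ∀ m : M, m + m = 0
  inv : ∀ (g : P) (v : M), v ∈ V → g • v ∈ V
  inv1 : ∀ (g : P) (z : M), z ∈ Z1 → g • z ∈ Z1
  fix : ∀ a ∈ A, ∀ z ∈ Z1, a • z = z
  disj : ∀ z : M, z ∈ V → z ∈ Z1 → z = 0
  le : Z2 ≤ V
  ti : ∀ (g : P) (u z : M), u ∈ Z2 → g • u ∉ Z2 → z ∈ Z2 → g • z ∈ Z2 → z = 0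
  mv : ∃ (g : P) (u : M), u ∈ Z2 ∧ g • u ∉ Z2
  AS : A ≤ S
  AE : A ≤ E
  nE : E.Normal
  comm : ∀ a ∈ A, ∀ v ∈ V, a • v - v ∈ Z2
  cent : ∀ a ∈ A, ∀ z ∈ Z2, a • z = z
  gen : ∀ s ∈ S, s ∈ E → ∃ a ∈ A, ∀ v ∈ V, s • v = a • v
  nrm : ∀ (g s : P), s ∈ S → (∀ v ∈ V, s • v = v) → g * s * g⁻¹ ∈ S
  reg : ∀ a ∈ A, (∃ v ∈ V, a • v ≠ v) → ∀ v ∈ V, a • v = v → v ∈ Z2
  ab : ∀ a ∈ A, ∀ b ∈ A, a * b = b * a
  cardV : Nat.card V = Nat.card Z2 * Nat.card Z2
  cardA : Nat.card A = Nat.card Z2 * Nat.card (A ⊓ cV V : Subgroup P)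
  bd : ∀ C ≤ A, Nat.card C * Nat.card (fx M C) ≤ Nat.card A * Nat.card (fx M A)
  k3 : ∀ C ≤ A, Nat.card C * Nat.card (fx M C) = Nat.card A * Nat.card (fx M A) →
    ∀ n : M, (∀ b ∈ C, b • n - n ∈ Z1) → ∀ b ∈ C, b • n = n

namespace Dat

variable {V Z1 Z2 : AddSubgroup M} {S A E : Subgroup P} (D : Dat V Z1 Z2 S A E)
include D

theorem neg_eq (m : M) : -m = m := by
  have := D.two m
  exact neg_eq_of_add_eq_zero_left this

theorem sub_eq (m n : M) : m - n = m + n := by rw [sub_eq_add_neg, D.neg_eq]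

/-- some `a ∈ A` moves `V` -/
theorem exists_mv [Finite P] [Finite M] : ∃ a ∈ A, ∃ v ∈ V, a • v ≠ v := by
  by_contra hcon
  push Not at hcon
  have h1 : A ⊓ cV V = A := inf_eq_left.2 fun a ha => mem_cV.2 (hcon a ha)
  have h2 := D.cardA
  rw [h1] at h2
  have h3 : 0 < Nat.card A := Nat.card_pos
  have h4 : Nat.card Z2 = 1 := by
    have : Nat.card Z2 * Nat.card A = 1 * Nat.card A := by rw [← h2, one_mul]
    exact Nat.eq_of_mul_eq_mul_right h3 this
  obtain ⟨g, u, hu, hg⟩ := D.mv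
  have h5 : Z2 = ⊥ := AddSubgroup.card_eq_one.1 h4
  rw [h5] at hu hg
  rw [AddSubgroup.mem_bot] at hu
  subst hu
  exact hg (by simp)

section fin

variable [Finite P] [Finite M]

theorem inf_fx : V ⊓ fx M A = Z2 := by
  refine le_antisymm ?_ (le_inf D.le fun z hz a ha => D.cent a ha z hz)
  obtain ⟨a, ha, hv⟩ := D.exists_mv
  exact fun v hv' => D.reg a ha hv v hv'.1 (hv'.2 a ha)

/-- `|V + C_M(A)| = q |C_M(A)|` -/
theorem card_sup : Nat.card (V ⊔ fx M A : AddSubgroup M) = Nat.card Z2 * Nat.card (fx M A) := by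
  have h1 := card_mul_relIndex (H := fx M A) (K := V ⊔ fx M A) le_sup_right
  have h2 : (fx M A).relIndex (V ⊔ fx M A) = (fx M A).relIndex V := by
    rw [sup_comm]
    exact AddSubgroup.relIndex_sup_left _ _
  have h3 : (fx M A).relIndex V = Nat.card Z2 := by
    have h4 := card_mul_relIndex (H := V ⊓ fx M A) (K := V) inf_le_left
    rw [AddSubgroup.inf_relIndex_left, D.inf_fx, D.cardV] at h4
    exact Nat.eq_of_mul_eq_mul_left Nat.card_pos h4
  rw [← h1, h2, h3, mul_comm]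

/-- `A₀ = C_A(V)` : exact, and `C_M(A₀) = V + C_M(A)` -/
theorem fx_zero : fx M (A ⊓ cV V : Subgroup P) = V ⊔ fx M A ∧
    Nat.card (A ⊓ cV V : Subgroup P) * Nat.card (fx M (A ⊓ cV V : Subgroup P)) = Nat.card A * Nat.card (fx M A) := by
  have h1 : V ⊔ fx M A ≤ fx M (A ⊓ cV V : Subgroup P) :=
    sup_le (fun v hv a ha => ha.2 v hv) fun m hm a ha => hm a ha.1
  have h2 := D.bd (A ⊓ cV V) inf_le_left
  have h3 : 0 < Nat.card (A ⊓ cV V : Subgroup P) := Nat.card_pos
  have h4 := D.card_sup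
  have h5 : Nat.card (fx M (A ⊓ cV V : Subgroup P)) ≤ Nat.card (V ⊔ fx M A : AddSubgroup M) := by
    rw [h4]
    rw [D.cardA] at h2
    refine Nat.le_of_mul_le_mul_left (c := Nat.card (A ⊓ cV V : Subgroup P)) ?_ h3
    calc _ ≤ _ := h2
      _ = _ := by ring
  have h6 : V ⊔ fx M A = fx M (A ⊓ cV V : Subgroup P) := AddSubgroup.eq_of_le_of_card_ge h1 h5
  refine ⟨h6.symm, ?_⟩
  rw [← h6, h4, D.cardA]
  ring

/-- `|A : A₀| = q` -/
theorem relIndex_zero : (A ⊓ cV V : Subgroup P).relIndex A = Nat.card Z2 := by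
  have h1 := card_mul_relIndex' (H := (A ⊓ cV V : Subgroup P)) (K := A) inf_le_left
  rw [D.cardA, mul_comm] at h1
  exact Nat.eq_of_mul_eq_mul_right Nat.card_pos h1

/-- The subgroup of `A₀` with `[r₀, b] ∈ Z₁`. -/
def kr (r0 : M) : Subgroup P where
  carrier := {b | (b ∈ A ∧ b ∈ (cV V : Subgroup P)) ∧ b • r0 - r0 ∈ Z1}
  one_mem' := ⟨⟨one_mem _, one_mem _⟩, by simp⟩
  mul_mem' := fun {x y} hx hy => ⟨⟨mul_mem hx.1.1 hy.1.1, mul_mem hx.1.2 hy.1.2⟩, by
    have : (x * y) • r0 - r0 = (y • r0 - r0) + (x • r0 - r0) := by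
      have h1 : x • (y • r0 - r0) = y • r0 - r0 := D.fix x hx.1.1 _ hy.2
      rw [mul_smul]
      rw [smul_sub] at h1
      rw [← h1]; abel
    rw [this]
    exact add_mem hy.2 hx.2⟩
  inv_mem' := fun {x} hx => ⟨⟨inv_mem hx.1.1, inv_mem hx.1.2⟩, by
    have h1 : x⁻¹ • (x • r0 - r0) = x • r0 - r0 := D.fix x⁻¹ (A.inv_mem hx.1.1) _ hx.2
    rw [smul_sub, inv_smul_smul] at h1
    have h2 : x⁻¹ • r0 - r0 = -(x • r0 - r0) := by rw [← h1]; abel
    rw [h2]
    exact neg_mem hx.2⟩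

theorem mem_kr {r0 : M} {b : P} : b ∈ D.kr r0 ↔ (b ∈ A ∧ b ∈ (cV V : Subgroup P)) ∧ b • r0 - r0 ∈ Z1 := Iff.rfl

/-- `[l r, b] = α(b) + l β(b)` -/
theorem comm_b {r : M} (hr : ∀ s ∈ S, s • r - r ∈ Z1 ⊔ Z2) (l : P) {b : P} (hb : b ∈ S) (hb' : b ∈ (cV V : Subgroup P)) :
    ∃ z1 ∈ Z1, ∃ z2 ∈ Z2, b • (l • r) - l • r = z1 + l • z2 := by
  have h1 : l⁻¹ * b * l ∈ S := by simpa using D.nrm l⁻¹ b hb hb'
  obtain ⟨z1, h2, z2, h3, h4⟩ := AddSubgroup.mem_sup.1 (hr _ h1)
  refine ⟨l • z1, D.inv1 l z1 h2, z2, h3, ?_⟩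
  have h5 : l • ((l⁻¹ * b * l) • r - r) = b • (l • r) - l • r := by
    rw [smul_sub, ← mul_smul, ← mul_smul]
    congr 2
    group
  rw [← h5, ← h4, smul_add]

theorem step_one {r : M} (hr : ∀ s ∈ S, s • r - r ∈ Z1 ⊔ Z2) {l : P} {u : M} (hu : u ∈ Z2) (hlu : l • u ∉ Z2) :
    l • r ∈ V ⊔ fx M A := by
  obtain ⟨r0, hr0⟩ : ∃ r0, r0 = l • r := ⟨_, rfl⟩
  rw [← hr0]
  set A0 : Subgroup P := A ⊓ cV V with hA0
  have hc : ∀ b ∈ A0, ∃ z1 ∈ Z1, ∃ z2 ∈ Z2, b • r0 - r0 = z1 + l • z2 := fun b hb => by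
    rw [hr0]
    exact D.comm_b hr l (D.AS hb.1) hb.2
  obtain ⟨hf0, hx0⟩ := D.fx_zero
  by_cases hall : ∀ b ∈ A0, b • r0 - r0 ∈ Z1
  · have h1 := D.k3 A0 inf_le_left hx0 r0 hall
    rw [← hf0]
    exact fun b hb => h1 b hb
  exfalso
  push Not at hall
  obtain ⟨b0, hb0, hb0'⟩ := hall
  set K := D.kr r0 with hK
  have hKA0 : K ≤ A0 := fun b hb => hb.1
  have hKA : K ≤ A := fun b hb => hb.1.1
  -- `|A₀ : K| ≤ q`
  have h1 : K.relIndex A0 ≤ Nat.card Z2 := by
    choose! z1 hz1 z2 hz2 he using hc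
    let f : (A0 ⧸ K.subgroupOf A0) → Z2 := fun x => ⟨z2 (Quotient.out x : A0), hz2 _ (Quotient.out x : A0).2⟩
    have hf : Function.Injective f := by
      intro x y hxy
      have h2 : z2 (Quotient.out x : A0) = z2 (Quotient.out y : A0) := congrArg Subtype.val hxy
      have h3 := he _ (Quotient.out x : A0).2
      have h4 := he _ (Quotient.out y : A0).2
      have hx1 := hz1 _ (Quotient.out x : A0).2
      have hy1 := hz1 _ (Quotient.out y : A0).2
      rw [← QuotientGroup.out_eq' x, ← QuotientGroup.out_eq' y, QuotientGroup.eq]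
      rw [Subgroup.mem_subgroupOf]
      refine (D.mem_kr).2 ⟨(mul_mem (inv_mem (Quotient.out x : A0).2) (Quotient.out y : A0).2), ?_⟩
      have h5 : ((((Quotient.out x : A0))⁻¹ * (Quotient.out y : A0) : A0) : P) • r0 - r0
          = (z1 (Quotient.out y : A0)) - z1 (Quotient.out x : A0) := by
        have h6 : ((((Quotient.out x : A0))⁻¹ * (Quotient.out y : A0) : A0) : P) • r0 - r0
            = ((Quotient.out x : A0) : P)⁻¹ • (((Quotient.out y : A0) : P) • r0 - r0 -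
              (((Quotient.out x : A0) : P) • r0 - r0)) := by
          rw [smul_sub, smul_sub, smul_sub, inv_smul_smul, ← mul_smul]
          push_cast
          abel
        rw [h6, h3, h4, h2, add_sub_add_right_eq_sub,
          D.fix _ (A.inv_mem (Quotient.out x : A0).2.1) _ (sub_mem hy1 hx1)]
      rw [h5]
      exact sub_mem hy1 hx1
    exact Nat.card_le_card_of_injective f hf
  have h1' : Nat.card A0 ≤ Nat.card K * Nat.card Z2 := by
    rw [← card_mul_relIndex' hKA0]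
    exact Nat.mul_le_mul_left _ h1
  -- `f_a`
  have hfa : ∀ a ∈ A, a • r0 - r0 ∈ fx M K := by
    intro a ha b hb
    have h2 : a • (b • r0 - r0) = b • r0 - r0 := D.fix a ha _ hb.2
    rw [smul_sub, ← mul_smul, D.ab a ha b hb.1.1] at h2
    rw [smul_sub, ← mul_smul]
    have h3 : (b * a) • r0 = a • r0 + (b • r0 - r0) := by rw [← h2]; abel
    rw [h3]; abel
  have hle : fx M A0 ≤ fx M K := fun m hm b hb => hm b (hKA0 hb)
  obtain ⟨z1, hz1, z2, hz2, he0⟩ := hc b0 hb0
  have hcomm : ∀ a ∈ A, b0 • (a • r0 - r0) - (a • r0 - r0) = a • (l • z2) - l • z2 := by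
    intro a ha
    have h2 : b0 • (a • r0 - r0) - (a • r0 - r0) = a • (b0 • r0 - r0) - (b0 • r0 - r0) := by
      rw [smul_sub, smul_sub, ← mul_smul, ← mul_smul, D.ab a ha b0 hb0.1]
      abel
    rw [h2, he0, smul_add, D.fix a ha z1 hz1]
    abel
  have hinj : ∀ a ∈ A, ∀ a' ∈ A, (a • r0 - r0) - (a' • r0 - r0) ∈ fx M A0 → a⁻¹ * a' ∈ A0 := by
    intro a ha a' ha' hm
    have h2 := hm b0 hb0
    have h3 : b0 • (a • r0 - r0) - (a • r0 - r0) = b0 • (a' • r0 - r0) - (a' • r0 - r0) := by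
      rw [smul_sub] at h2
      rw [sub_eq_sub_iff_sub_eq_sub]
      exact h2
    rw [hcomm a ha, hcomm a' ha', sub_left_inj] at h3
    refine Subgroup.mem_inf.2 ⟨A.mul_mem (A.inv_mem ha) ha', ?_⟩
    by_contra hcon
    have h4 : ∃ v ∈ V, (a⁻¹ * a') • v ≠ v := by
      by_contra h5
      push Not at h5
      exact hcon h5
    have h6 : l • z2 ∈ Z2 := by
      refine D.reg _ (mul_mem (inv_mem ha) ha') h4 _ (D.inv l _ (D.le hz2)) ?_
      rw [mul_smul, ← h3, inv_smul_smul]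
    have h7 := D.ti l u z2 hu hlu hz2 h6
    rw [h7, smul_zero, add_zero] at he0
    rw [he0] at hb0'
    exact hb0' hz1
  let φ : (A ⧸ A0.subgroupOf A) → (fx M K ⧸ (fx M A0).addSubgroupOf (fx M K)) := fun x =>
    QuotientAddGroup.mk ⟨((Quotient.out x : A) : P) • r0 - r0, hfa _ (Quotient.out x : A).2⟩
  have hφ : Function.Injective φ := by
    intro x y hxy
    rw [← QuotientGroup.out_eq' x, ← QuotientGroup.out_eq' y, QuotientGroup.eq, Subgroup.mem_subgroupOf]
    have h2 := QuotientAddGroup.eq.1 hxy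
    rw [AddSubgroup.mem_addSubgroupOf] at h2
    have h3 : (((Quotient.out x : A) : P) • r0 - r0) - (((Quotient.out y : A) : P) • r0 - r0) ∈ fx M A0 := by
      have h4 := neg_mem h2
      have h5 : -(((-(⟨((Quotient.out x : A) : P) • r0 - r0, hfa _ (Quotient.out x : A).2⟩ : fx M K) +
          ⟨((Quotient.out y : A) : P) • r0 - r0, hfa _ (Quotient.out y : A).2⟩ : fx M K)) : M)
          = (((Quotient.out x : A) : P) • r0 - r0) - (((Quotient.out y : A) : P) • r0 - r0) := by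
        push_cast
        abel
      rwa [h5] at h4
    have h6 := hinj _ (Quotient.out x : A).2 _ (Quotient.out y : A).2 h3
    simpa using h6
  have hcardA : Nat.card (A ⧸ A0.subgroupOf A) = Nat.card Z2 := D.relIndex_zero
  have hc2 := D.bd K hKA
  have hc3 := card_mul_relIndex hle
  have hc4 : (fx M A0).relIndex (fx M K) ≤ Nat.card Z2 := by
    have h2 : Nat.card K * Nat.card (fx M K) ≤ Nat.card K * (Nat.card Z2 * Nat.card (fx M A0)) := by
      calc _ ≤ _ := hc2
        _ = Nat.card A0 * Nat.card (fx M A0) := hx0.symm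
        _ ≤ Nat.card K * Nat.card Z2 * Nat.card (fx M A0) := Nat.mul_le_mul_right _ h1'
        _ = _ := by ring
    have h3 := Nat.le_of_mul_le_mul_left h2 Nat.card_pos
    rw [← hc3, mul_comm (Nat.card Z2)] at h3
    exact Nat.le_of_mul_le_mul_left h3 Nat.card_pos
  have hc5 : Nat.card Z2 ≤ (fx M A0).relIndex (fx M K) := by
    rw [← hcardA]
    exact Nat.card_le_card_of_injective φ hφ
  have hc6 : (fx M A0).relIndex (fx M K) = Nat.card Z2 := le_antisymm hc4 hc5
  have hex : Nat.card K * Nat.card (fx M K) = Nat.card A * Nat.card (fx M A) := by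
    refine le_antisymm hc2 ?_
    rw [← hx0, ← hc3, hc6]
    calc _ ≤ Nat.card K * Nat.card Z2 * Nat.card (fx M A0) := Nat.mul_le_mul_right _ h1'
      _ = _ := by ring
  have hr0K : r0 ∈ fx M K := fun b hb => D.k3 K hKA hex r0 (fun b' hb' => hb'.2) b hb
  obtain ⟨x, hx⟩ := (Function.Injective.bijective_of_nat_card_le hφ (by rw [hcardA]; exact hc4)).2
    (QuotientAddGroup.mk ⟨r0, hr0K⟩)
  have h2 := QuotientAddGroup.eq.1 hx
  rw [AddSubgroup.mem_addSubgroupOf] at h2
  have h3 := h2 b0 hb0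
  have h4 := hcomm _ (Quotient.out x : A).2
  set a : P := ((Quotient.out x : A) : P) with ha
  have h5 : b0 • r0 - r0 = b0 • (a • r0 - r0) - (a • r0 - r0) := by
    have h6 : b0 • (-(a • r0 - r0) + r0) = -(a • r0 - r0) + r0 := h3
    rw [smul_add, smul_neg] at h6
    rw [sub_eq_sub_iff_add_eq_add]
    have h7 : b0 • r0 = -(a • r0 - r0) + r0 + b0 • (a • r0 - r0) := by rw [← h6]; abel
    rw [h7]; abel
  rw [h4, he0] at h5
  have h6 : a • (l • z2) - l • z2 ∈ Z2 := D.comm a (Quotient.out x : A).2 _ (D.inv l _ (D.le hz2))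
  have h7 : z1 = (a • (l • z2) - l • z2) - l • z2 := by rw [← h5]; abel
  have h8 : z1 = 0 := D.disj z1 (by rw [h7]; exact sub_mem (D.le h6) (D.inv l _ (D.le hz2))) hz1
  rw [h8, zero_add] at h5 he0
  have h9 := D.ti l u z2 hu hlu hz2 (by rw [h5]; exact h6)
  rw [h9, smul_zero] at he0
  rw [he0] at hb0'
  exact hb0' (zero_mem _)

/-- The stabiliser of the coset `r + V`. -/
def lam (r : M) : Subgroup P where
  carrier := {g | g • r - r ∈ V}
  one_mem' := by simp
  mul_mem' := fun {x y} hx hy => by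
    have : (x * y) • r - r = x • (y • r - r) + (x • r - r) := by rw [mul_smul, smul_sub]; abel
    show (x * y) • r - r ∈ V
    rw [this]
    exact add_mem (D.inv x _ hy) hx
  inv_mem' := fun {x} hx => by
    have : x⁻¹ • r - r = -(x⁻¹ • (x • r - r)) := by rw [smul_sub, inv_smul_smul]; abel
    show x⁻¹ • r - r ∈ V
    rw [this]
    exact neg_mem (D.inv _ _ hx)

theorem mem_lam {r : M} {g : P} : g ∈ D.lam r ↔ g • r - r ∈ V := Iff.rfl

theorem cV_normal : (cV V : Subgroup P).Normal where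
  conj_mem := fun n hn g v hv => by
    rw [mul_smul, mul_smul, hn _ (D.inv _ _ hv), smul_inv_smul]

theorem exists_w {r : M} (hr : ∀ s ∈ S, s • r - r ∈ Z1 ⊔ Z2) {l : P} {u : M} (hu : u ∈ Z2) (hlu : l • u ∉ Z2) :
    (∀ a ∈ A, l⁻¹ * a * l ∈ D.lam r) ∧ ∃ w : M, w - r ∈ V ∧ ∀ a ∈ A, (l⁻¹ * a * l) • w = w := by
  obtain ⟨v, hv, m, hm, he⟩ := AddSubgroup.mem_sup.1 (D.step_one hr hu hlu)
  have h1 : l⁻¹ • m - r = -(l⁻¹ • v) := by
    have : r = l⁻¹ • v + l⁻¹ • m := by rw [← smul_add, he, inv_smul_smul]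
    calc l⁻¹ • m - r = l⁻¹ • m - (l⁻¹ • v + l⁻¹ • m) := by rw [← this]
      _ = _ := by abel
  have h2 : l⁻¹ • m - r ∈ V := by rw [h1]; exact neg_mem (D.inv _ _ hv)
  have h3 : ∀ a ∈ A, (l⁻¹ * a * l) • (l⁻¹ • m) = l⁻¹ • m := fun a ha => by
    rw [mul_smul, mul_smul, smul_inv_smul, hm a ha]
  refine ⟨fun a ha => ?_, l⁻¹ • m, h2, h3⟩
  rw [mem_lam]
  have h4 : (l⁻¹ * a * l) • r - r = (l⁻¹ • m - r) - (l⁻¹ * a * l) • (l⁻¹ • m - r) := by
    rw [smul_sub, h3 a ha]; abel
  rw [h4]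
  exact sub_mem h2 (D.inv _ _ h2)

theorem exists_x {r : M} (hr : ∀ s ∈ S, s • r - r ∈ Z1 ⊔ Z2) :
    ∃ x ∈ D.lam r, x ∈ E ∧ ∃ u ∈ Z2, x • u ∉ Z2 ∧ x⁻¹ • u ∉ Z2 := by
  obtain ⟨l, u, hu, hlu⟩ := D.mv
  obtain ⟨a, ha, hv⟩ := D.exists_mv
  have key : ∀ b ∈ A, (∃ v ∈ V, b • v ≠ v) → (l⁻¹ * b * l) • u ∉ Z2 := by
    intro b hb hbv hcon
    have h1 : b • (l • u) - l • u ∈ Z2 := D.comm b hb _ (D.inv _ _ (D.le hu))
    have h2 : l • ((l⁻¹ * b * l) • u - u) = b • (l • u) - l • u := by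
      rw [smul_sub, ← mul_smul, ← mul_smul]
      congr 2
      group
    have h3 : (l⁻¹ * b * l) • u - u = 0 :=
      D.ti l u _ hu hlu (sub_mem hcon hu) (by rw [h2]; exact h1)
    rw [h3, smul_zero, eq_comm, sub_eq_zero] at h2
    exact hlu (D.reg b hb hbv _ (D.inv _ _ (D.le hu)) h2)
  obtain ⟨v, hv, hav⟩ := hv
  refine ⟨l⁻¹ * a * l, (D.exists_w hr hu hlu).1 a ha, ?_, u, hu, key a ha ⟨v, hv, hav⟩, ?_⟩
  · simpa using D.nE.conj_mem a (D.AE ha) l⁻¹
  have h4 : (l⁻¹ * a * l)⁻¹ = l⁻¹ * a⁻¹ * l := by group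
  rw [h4]
  refine key _ (inv_mem ha) ⟨v, hv, fun h5 => hav ?_⟩
  rw [inv_smul_eq_iff] at h5
  exact h5.symm

/-- a fixed point of `A` in `r + V` -/
theorem exists_c' {r : M} (hr : ∀ s ∈ S, s • r - r ∈ Z1 ⊔ Z2) :
    A ≤ D.lam r ∧ ∃ w : M, w - r ∈ V ∧ ∀ a ∈ A, a • w = w := by
  obtain ⟨x, hx, -, u, hu, -, hxu⟩ := D.exists_x hr
  obtain ⟨h1, w, hw, h2⟩ := D.exists_w hr hu hxu
  simp only [inv_inv] at h1 h2
  refine ⟨fun a ha => ?_, x⁻¹ • w, ?_, fun a ha => ?_⟩
  · have h3 := (D.lam r).mul_mem ((D.lam r).mul_mem ((D.lam r).inv_mem hx) (h1 a ha)) hx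
    have h4 : x⁻¹ * (x * a * x⁻¹) * x = a := by group
    rwa [h4] at h3
  · have h3 : x⁻¹ • w - r = x⁻¹ • (w - r) + (x⁻¹ • r - r) := by rw [smul_sub]; abel
    rw [h3]
    exact add_mem (D.inv _ _ hw) ((D.lam r).inv_mem hx)
  · have h3 := h2 a ha
    have h4 : x⁻¹ • ((x * a * x⁻¹) • w) = a • (x⁻¹ • w) := by
      rw [← mul_smul, ← mul_smul]
      congr 1
      group
    rw [← h4, h3]

/-- if `g Z₂ ≤ Z₂` then `g⁻¹ Z₂ ≤ Z₂` -/
theorem mem_of_smul {g : P} (hg : ∀ u ∈ Z2, g • u ∈ Z2) {m : M} (hm : g • m ∈ Z2) : m ∈ Z2 := by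
  have h1 : ∀ j : ℕ, ∀ u ∈ Z2, g ^ j • u ∈ Z2 := by
    intro j
    induction j with
    | zero => intro u hu; simpa using hu
    | succ j ih =>
      intro u hu
      rw [pow_succ, mul_smul]
      exact ih _ (hg u hu)
  have h2 := h1 (orderOf g - 1) _ hm
  rwa [← mul_smul, ← pow_succ, Nat.sub_add_cancel (orderOf_pos g), pow_orderOf_eq_one, one_smul] at h2

/-- all conjugates of `A` stabilise `r + V` -/
theorem conj_mem_lam {r : M} (hr : ∀ s ∈ S, s • r - r ∈ Z1 ⊔ Z2) (g : P) {a : P} (ha : a ∈ A) :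
    g⁻¹ * a * g ∈ D.lam r := by
  by_cases h : ∃ u ∈ Z2, g • u ∉ Z2
  · obtain ⟨u, hu, hgu⟩ := h
    exact (D.exists_w hr hu hgu).1 a ha
  push Not at h
  obtain ⟨x, hx, -, u, hu, -, hxu⟩ := D.exists_x hr
  have h1 : (g * x⁻¹) • u ∉ Z2 := fun h2 => hxu (D.mem_of_smul h (by rwa [mul_smul] at h2))
  have h3 := (D.exists_w hr hu h1).1 a ha
  have h4 := (D.lam r).mul_mem ((D.lam r).mul_mem ((D.lam r).inv_mem hx) h3) hx
  have h5 : x⁻¹ * ((g * x⁻¹)⁻¹ * a * (g * x⁻¹)) * x = g⁻¹ * a * g := by group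
  rwa [h5] at h4

end fin

end Dat

section syl

variable [Finite P] [Finite M] {V Z1 Z2 : AddSubgroup M} {A E : Subgroup P} {S : Sylow 2 P}

/-- `C_Λ(V)` centralises `r` -/
theorem Dat.smul_r {r : M} (D : Dat V Z1 Z2 (S : Subgroup P) A E)
    (hr : ∀ s ∈ (S : Subgroup P), s • r - r ∈ Z1 ⊔ Z2) {κ : P} (hκ : κ ∈ D.lam r)
    (hκ' : κ ∈ (cV V : Subgroup P)) : κ • r = r := by
  have hn := D.cV_normal
  -- 2-elements of `C(V)` lie in `S`
  have h2 : ∀ y ∈ (cV V : Subgroup P), IsPGroup 2 (Subgroup.zpowers y) → y ∈ (S : Subgroup P) := by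
    intro y hy hp
    obtain ⟨Q, hQ⟩ := hp.exists_le_sylow
    obtain ⟨g, hg⟩ := MulAction.exists_smul_eq P S Q
    have h3 : y ∈ (Q : Subgroup P) := hQ (Subgroup.mem_zpowers y)
    rw [← hg, Sylow.coe_subgroup_smul, Subgroup.mem_pointwise_smul_iff_inv_smul_mem, MulAut.smul_def,
      ← map_inv, MulAut.conj_apply, inv_inv] at h3
    have h4 := D.nrm g (g⁻¹ * y * g) h3 (fun v hv => by
      have := D.cV_normal.conj_mem y hy g⁻¹
      rw [inv_inv] at this
      exact this v hv)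
    simpa [mul_assoc] using h4
  have hz' : ∀ y ∈ D.lam r, y ∈ (cV V : Subgroup P) → y • r - r ∈ Z2 := by
    intro κ hκ hκ'
    have hpow : ∀ j : ℕ, κ ^ j • r - r = j • (κ • r - r) := by
      intro j
      induction j with
      | zero => simp
      | succ j ih =>
        have h3 : κ ^ j • (κ • r - r) = κ • r - r := (pow_mem hκ' j) _ hκ
        rw [pow_succ, mul_smul, succ_nsmul, ← ih]
        rw [smul_sub] at h3
        rw [← h3]; abel
    obtain ⟨k, m, hm, hn⟩ := Nat.exists_eq_two_pow_mul_odd (orderOf_pos κ).ne'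
    have h3 : IsPGroup 2 (Subgroup.zpowers (κ ^ m)) := by
      refine IsPGroup.of_card (n := k) ?_
      rw [Nat.card_zpowers, orderOf_pow, hn, Nat.gcd_eq_right (Dvd.intro_left _ rfl),
        Nat.mul_div_cancel _ hm.pos]
    have h4 := hr _ (h2 _ (pow_mem hκ' m) h3)
    rw [hpow m] at h4
    have h5 : m • (κ • r - r) = κ • r - r := by
      obtain ⟨j, rfl⟩ := hm
      rw [add_nsmul, mul_comm, mul_nsmul, two_nsmul, D.two, one_nsmul]
      simp
    rw [h5] at h4
    obtain ⟨z1, hz1, z2, hz2, he⟩ := AddSubgroup.mem_sup.1 h4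
    have h6 : z1 = 0 := D.disj z1 (by
      have : z1 = (κ • r - r) - z2 := by rw [← he]; abel
      rw [this]
      exact sub_mem hκ (D.le hz2)) hz1
    rw [← he, h6, zero_add]
    exact hz2
  obtain ⟨x, hx, -, u, hu, hxu, -⟩ := D.exists_x hr
  have h8 : x • (κ • r - r) = (x * κ * x⁻¹) • r - r := by
    have h9 : x⁻¹ • r - r ∈ V := (D.lam r).inv_mem hx
    have h10 := hκ' _ h9
    rw [smul_sub, ← mul_smul] at h10
    have h11 : (κ * x⁻¹) • r = x⁻¹ • r - r + κ • r := by rw [← h10]; abel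
    rw [mul_assoc, mul_smul, h11, smul_add, smul_sub, smul_sub, smul_inv_smul]
    abel
  have h7 : x • (κ • r - r) ∈ Z2 := by
    rw [h8]
    exact hz' _ (mul_mem (mul_mem hx hκ) ((D.lam r).inv_mem hx)) (hn.conj_mem κ hκ' x)
  exact sub_eq_zero.1 (D.ti x u _ hu hxu (hz' κ hκ hκ') h7)

/-- **THEOREM I(q)** -/
theorem Dat.exists_c {r : M} (D : Dat V Z1 Z2 (S : Subgroup P) A E)
    (hr : ∀ s ∈ (S : Subgroup P), s • r - r ∈ Z1 ⊔ Z2) :
    ∃ c : M, c - r ∈ V ∧ (∀ (g : P), ∀ a ∈ A, (g⁻¹ * a * g) • c = c) ∧ ∀ s ∈ (S : Subgroup P), s • c - c ∈ Z1 := by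
  have hn := D.cV_normal
  have hE := D.nE
  obtain ⟨hAl, w, hw, hAw⟩ := D.exists_c' hr
  set L := D.lam r ⊓ E with hL
  have hAL : A ≤ L := le_inf hAl D.AE
  -- a Sylow group of `L` over `A`
  have hA2 : IsPGroup 2 (A.subgroupOf L) := by
    have h1 : IsPGroup 2 A := S.2.to_le D.AS
    exact h1.comap_subtype
  obtain ⟨T, hT⟩ := hA2.exists_le_sylow
  have hTw : ∀ t ∈ (T : Subgroup L), (t : P) • w = w := by
    set T1 : Subgroup P := (T : Subgroup L).map L.subtype with hT1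
    have hAT : A ≤ T1 := by
      intro a ha
      exact ⟨⟨a, hAL ha⟩, hT ha, rfl⟩
    have hT1E : T1 ≤ E := by
      rintro _ ⟨t, -, rfl⟩
      exact t.2.2
    have hT2 : IsPGroup 2 T1 := T.2.map L.subtype
    obtain ⟨Q, hQ⟩ := hT2.exists_le_sylow
    obtain ⟨g, hg⟩ := MulAction.exists_smul_eq P S Q
    let φ := QuotientGroup.mk' (cV V : Subgroup P)
    have h1 : ((S : Subgroup P) ⊓ E).map φ = A.map φ := by
      refine le_antisymm ?_ (Subgroup.map_mono (le_inf D.AS D.AE))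
      rintro _ ⟨s, hs, rfl⟩
      obtain ⟨a, ha, h2⟩ := D.gen s hs.1 hs.2
      refine ⟨a, ha, ?_⟩
      refine QuotientGroup.eq.2 ?_
      intro v hv
      rw [mul_smul, h2 v hv, inv_smul_smul]
    have h2 : Nat.card (((Q : Subgroup P) ⊓ E).map φ) = Nat.card (A.map φ) := by
      have h3 : ((Q : Subgroup P) ⊓ E).map φ =
          (((S : Subgroup P) ⊓ E).map φ).map (MulAut.conj (φ g)).toMonoidHom := by
        rw [← hg, Sylow.coe_subgroup_smul, Subgroup.map_map]
        ext y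
        simp only [Subgroup.mem_map, Subgroup.mem_inf, Subgroup.mem_smul_pointwise_iff_exists]
        constructor
        · rintro ⟨_, ⟨⟨s, hs, rfl⟩, hsE⟩, rfl⟩
          refine ⟨s, ⟨hs, ?_⟩, by simp [MulAut.smul_def]⟩
          have h5 := hE.conj_mem _ hsE g⁻¹
          simpa [MulAut.smul_def, mul_assoc] using h5
        · rintro ⟨s, ⟨hs, hsE⟩, rfl⟩
          refine ⟨_, ⟨⟨s, hs, rfl⟩, ?_⟩, by simp [MulAut.smul_def]⟩
          simpa [MulAut.smul_def] using hE.conj_mem s hsE g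
      rw [h3, h1]
      exact Subgroup.card_map_of_injective (MulAut.conj (φ g)).injective
    have h4 : A.map φ = T1.map φ := Subgroup.eq_of_le_of_card_ge (Subgroup.map_mono hAT)
      (by rw [← h2]; exact Subgroup.card_le_of_le (Subgroup.map_mono (le_inf hQ hT1E)))
    intro t ht
    have h5 : φ (t : P) ∈ A.map φ := by
      rw [h4]
      exact ⟨t, ⟨t, ht, rfl⟩, rfl⟩
    obtain ⟨a, ha, h6⟩ := h5
    have h7 : a⁻¹ * (t : P) ∈ (cV V : Subgroup P) := QuotientGroup.eq.1 h6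
    have h8 := D.smul_r hr (mul_mem ((D.lam r).inv_mem (hAl ha)) t.2.1) h7
    have h9 : (a⁻¹ * (t : P)) • w = w := by
      have h10 := h7 _ hw
      rw [smul_sub, h8, sub_left_inj] at h10
      exact h10
    rw [mul_smul, inv_smul_eq_iff, hAw a ha] at h9
    exact h9
  -- the average over `L / T`
  let f : (L ⧸ (T : Subgroup L)) → M := fun y => ((Quotient.out y : L) : P) • w
  have hf : ∀ (g : L) (y : L ⧸ (T : Subgroup L)), f (g • y) = (g : P) • f y := by
    intro g y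
    obtain ⟨t, ht, h1⟩ : ∃ t ∈ (T : Subgroup L), (Quotient.out (g • y) : L) = g * Quotient.out y * t := by
      have h2 : (QuotientGroup.mk (Quotient.out (g • y)) : L ⧸ (T : Subgroup L)) =
          QuotientGroup.mk (g * Quotient.out y) := by
        rw [QuotientGroup.out_eq', ← smul_eq_mul, ← MulAction.Quotient.smul_mk, QuotientGroup.out_eq']
      exact ⟨(g * Quotient.out y)⁻¹ * Quotient.out (g • y), QuotientGroup.eq.1 h2.symm, by group⟩
    show ((Quotient.out (g • y) : L) : P) • w = (g : P) • (((Quotient.out y : L) : P) • w)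
    rw [h1]
    push_cast
    rw [mul_smul, hTw t ht, mul_smul]
  have hfV : ∀ y, f y - r ∈ V := by
    intro y
    have h1 : f y - r = ((Quotient.out y : L) : P) • (w - r) + (((Quotient.out y : L) : P) • r - r) := by
      rw [smul_sub]
      show ((Quotient.out y : L) : P) • w - r = _
      abel
    rw [h1]
    exact add_mem (D.inv _ _ hw) (Quotient.out y : L).2.1
  have := Fintype.ofFinite (L ⧸ (T : Subgroup L))
  obtain ⟨c, hc⟩ : ∃ c, c = ∑ y, f y := ⟨_, rfl⟩
  have hodd : Odd (Fintype.card (L ⧸ (T : Subgroup L))) := by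
    rw [← Nat.card_eq_fintype_card, ← Subgroup.index_eq_card, ← Nat.not_even_iff_odd, even_iff_two_dvd]
    exact T.not_dvd_index
  have hcV : c - r ∈ V := by
    have h1 : ∑ y, (f y - r) ∈ V := sum_mem fun y _ => hfV y
    rw [Finset.sum_sub_distrib, ← hc, Finset.sum_const, Finset.card_univ] at h1
    have h5 : (Fintype.card (L ⧸ (T : Subgroup L))) • r = r := by
      obtain ⟨j, hj⟩ := hodd
      rw [hj, add_nsmul, mul_comm, mul_nsmul, two_nsmul, D.two, one_nsmul]
      simp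
    rwa [h5] at h1
  have hcL : ∀ g ∈ L, g • c = c := by
    intro g hg
    rw [hc, Finset.smul_sum]
    have h1 : ∀ y, g • f y = f ((⟨g, hg⟩ : L) • y) := fun y => (hf ⟨g, hg⟩ y).symm
    simp_rw [h1]
    exact Equiv.sum_comp (MulAction.toPerm (⟨g, hg⟩ : L)) f
  have hcA : ∀ (g : P), ∀ a ∈ A, (g⁻¹ * a * g) • c = c := fun g a ha =>
    hcL _ ⟨D.conj_mem_lam hr g ha, by simpa using hE.conj_mem a (D.AE ha) g⁻¹⟩
  refine ⟨c, hcV, hcA, ?_⟩
  -- `[c, S] ≤ Z₁`
  intro s hs
  obtain ⟨z1, hz1, z2, hz2, he⟩ := AddSubgroup.mem_sup.1 (hr s hs)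
  obtain ⟨v, hv, h1⟩ : ∃ v ∈ V, s • c - c = z1 + v := by
    refine ⟨z2 + (s • (c - r) - (c - r)), add_mem (D.le hz2) (sub_mem (D.inv _ _ hcV) hcV), ?_⟩
    rw [← add_assoc, he, smul_sub]
    abel
  -- conjugates of `A` fix `s c - c` and `z1`, so `v`
  have h2 : ∀ (g : P), ∀ a ∈ A, (g⁻¹ * a * g) • v = v := by
    intro g a ha
    have h3 : (g⁻¹ * a * g) • (s • c) = s • c := by
      have h4 := hcA (g * s) a ha
      have h5 : (g⁻¹ * a * g) * s = s * ((g * s)⁻¹ * a * (g * s)) := by group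
      rw [← mul_smul, h5, mul_smul, h4]
    have h4 : (g⁻¹ * a * g) • z1 = z1 := by
      rw [mul_smul, mul_smul, D.fix a ha _ (D.inv1 g z1 hz1), inv_smul_smul]
    have h5 : (g⁻¹ * a * g) • (z1 + v) = z1 + v := by
      rw [← h1, smul_sub, h3, hcA g a ha]
    rw [smul_add, h4] at h5
    exact add_left_cancel h5
  obtain ⟨a, ha, hav⟩ := D.exists_mv
  obtain ⟨l, u, hu, hlu⟩ := D.mv
  have h3 : v ∈ Z2 := D.reg a ha hav v hv (by simpa using h2 1 a ha)
  have h4 : l • v ∈ Z2 := by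
    refine D.reg a ha hav _ (D.inv _ _ hv) ?_
    have h5 := h2 l a ha
    rw [mul_smul, mul_smul, inv_smul_eq_iff] at h5
    exact h5
  rw [h1, D.ti l u v hu hlu h3 h4, add_zero]
  exact hz1

end syl

end Cfsg.Agent.Omega.KL.ThmIq

end

-- merged: Cfsg.Agent.Mrg.Omega.KL.ThmIqG
section

section


/-!
# THEOREM I(q) (helper918 #24006 (4)), group form

`GDat P S A E N V Z1 Z2` : subgroups of a finite group; `P` acts by conjugation on the elementary abelian `N`,
`V ≤ N` natural for `SL₂(q)`, `Z2 = C_V(A)`, `|Z2| = q`, `Z1` normalised by `P`, centralised by `A` and `N`.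

* `GDat.exists_v` : `r ∈ N`, `[r, S] ≤ Z1 Z2` : there is `v ∈ V` with `[r v, A] = 1` and `[r v, S] ≤ Z1`;
* `exists_of_two`, `inter_le` : both sides: `N 0 ∩ N 1 ≤ Z 0 Z 1`.
-/

set_option autoImplicit false
set_option linter.unusedSectionVars false
set_option linter.style.haveILetI false

namespace Cfsg.Agent.Omega.KL.ThmIq

open Subgroup

universe u

variable {G : Type u} [Group G]

/-- The data of THEOREM I(q) in a group. No field automorphisms: `E = P`. -/
structure GDat (P S A E N V Z1 Z2 : Subgroup G) : Prop where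
  sqN : ∀ x ∈ N, x ^ 2 = 1
  sqZ : ∀ x ∈ Z1, x ^ 2 = 1
  NZ : N ≤ centralizer (Z1 : Set G)
  PN : P ≤ normalizer (N : Set G)
  PV : P ≤ normalizer (V : Set G)
  PZ : P ≤ normalizer (Z1 : Set G)
  VN : V ≤ N
  SP : S ≤ P
  two : IsPGroup 2 S
  syl : ¬ 2 ∣ S.relIndex P
  fix : A ≤ centralizer (Z1 : Set G)
  disj : V ⊓ Z1 = ⊥
  le : Z2 ≤ V
  ti : ∀ g ∈ P, g ∉ normalizer (Z2 : Set G) → ∀ z ∈ Z2, g * z * g⁻¹ ∈ Z2 → z = 1
  mv : ¬ P ≤ normalizer (Z2 : Set G)
  AS : A ≤ S
  AE : A ≤ E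
  EP : E ≤ P
  nE : P ≤ normalizer (E : Set G)
  comm : ∀ a ∈ A, ∀ v ∈ V, a * v * a⁻¹ * v⁻¹ ∈ Z2
  cent : A ≤ centralizer (Z2 : Set G)
  gen : ∀ s ∈ S, s ∈ E → ∃ a ∈ A, a⁻¹ * s ∈ centralizer (V : Set G)
  nrm : P ≤ normalizer ((S ⊓ centralizer (V : Set G) : Subgroup G) : Set G)
  reg : ∀ a ∈ A, a ∉ centralizer (V : Set G) → ∀ v ∈ V, a * v = v * a → v ∈ Z2
  ab : A ≤ centralizer (A : Set G)
  cardV : Nat.card V = Nat.card Z2 * Nat.card Z2
  cardA : Nat.card A = Nat.card Z2 * Nat.card (A ⊓ centralizer (V : Set G) : Subgroup G)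
  no : ∀ C ≤ A, (centralizer (N : Set G)).relIndex C ≤ (centralizer (C : Set G)).relIndex N
  ex : (centralizer (N : Set G)).relIndex A = (centralizer (A : Set G)).relIndex N
  k3 : ∀ C ≤ A, (centralizer (N : Set G)).relIndex C = (centralizer (C : Set G)).relIndex N →
    ∀ n ∈ N, (∀ b ∈ C, b * n * b⁻¹ * n⁻¹ ∈ Z1) → ∀ b ∈ C, b * n = n * b

section action

variable {P H : Subgroup G}

/-- `H` with `x ^ 2 = 1` is commutative. -/
abbrev grpOf (h : ∀ x ∈ H, x ^ 2 = 1) : CommGroup H :=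
  { (inferInstance : Group H) with
    mul_comm := fun x y => by
      have h1 : ∀ z : H, z * z = 1 := fun z => by
        have := h z.1 z.2
        rw [pow_two] at this
        exact Subtype.ext this
      have h2 := h1 (x * y)
      have h3 : x * y = (x * y)⁻¹ := eq_inv_of_mul_eq_one_left h2
      rw [h3, mul_inv_rev, ← eq_inv_of_mul_eq_one_left (h1 x), ← eq_inv_of_mul_eq_one_left (h1 y)] }

/-- `H` as an additive group -/
def Md (H : Subgroup G) : Type u := H

/-- the element -/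
def Md.val (x : Md H) : G := Subtype.val (x : H)

theorem Md.mem (x : Md H) : x.val ∈ H := Subtype.property (x : H)

def Md.mk (x : G) (h : x ∈ H) : Md H := (⟨x, h⟩ : H)

theorem Md.ext {x y : Md H} (h : x.val = y.val) : x = y := Subtype.ext h

theorem Md.val_mk (x : G) (h : x ∈ H) : (Md.mk x h).val = x := rfl

/-- the additive structure -/
abbrev addOf (h : ∀ x ∈ H, x ^ 2 = 1) : AddCommGroup (Md H) :=
  letI := grpOf h
  (inferInstance : AddCommGroup (Additive H))

/-- the action -/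
abbrev actOf (h : ∀ x ∈ H, x ^ 2 = 1) (hP : P ≤ normalizer (H : Set G)) :
    letI := addOf h
    DistribMulAction P (Md H) :=
  letI := addOf h
  { smul := fun g x => Md.mk ((g : G) * x.val * (g : G)⁻¹) ((mem_normalizer_iff.1 (hP g.2) _).1 x.mem)
    one_smul := fun x => Md.ext (by
      show ((1 : P) : G) * x.val * ((1 : P) : G)⁻¹ = x.val
      simp)
    mul_smul := fun g k x => Md.ext (by
      show ((g * k : P) : G) * x.val * ((g * k : P) : G)⁻¹ = (g : G) * ((k : G) * x.val * (k : G)⁻¹) * (g : G)⁻¹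
      rw [Subgroup.coe_mul, mul_inv_rev]
      simp only [mul_assoc])
    smul_zero := fun g => Md.ext (by
      show (g : G) * 1 * (g : G)⁻¹ = 1
      simp)
    smul_add := fun g x y => Md.ext (by
      show (g : G) * (x.val * y.val) * (g : G)⁻¹ = ((g : G) * x.val * (g : G)⁻¹) * ((g : G) * y.val * (g : G)⁻¹)
      group) }

/-- `K ∩ H` in `Md H` -/
def sub (h : ∀ x ∈ H, x ^ 2 = 1) (K : Subgroup G) :
    letI := addOf h
    AddSubgroup (Md H) :=
  letI := addOf h
  { carrier := {x | x.val ∈ K}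
    add_mem' := fun {x y} (hx : x.val ∈ K) (hy : y.val ∈ K) => (K.mul_mem hx hy : x.val * y.val ∈ K)
    zero_mem' := K.one_mem
    neg_mem' := fun {x} (hx : x.val ∈ K) => (K.inv_mem hx : x.val⁻¹ ∈ K) }

end action

theorem exists_mul_sup {N Z : Subgroup G} (h : N ≤ centralizer (Z : Set G)) {x : G} (hx : x ∈ N ⊔ Z) :
    ∃ n ∈ N, ∃ z ∈ Z, x = n * z := by
  have hc : ∀ n ∈ N, ∀ z ∈ Z, z * n = n * z := fun n hn z hz => mem_centralizer_iff.1 (h hn) z hz
  let K : Subgroup G :=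
    { carrier := {x | ∃ n ∈ N, ∃ z ∈ Z, x = n * z}
      one_mem' := ⟨1, one_mem _, 1, one_mem _, by simp⟩
      mul_mem' := by
        rintro _ _ ⟨n, hn, z, hz, rfl⟩ ⟨m, hm, w, hw, rfl⟩
        refine ⟨n * m, mul_mem hn hm, z * w, mul_mem hz hw, ?_⟩
        calc n * z * (m * w) = n * (z * m) * w := by group
          _ = n * (m * z) * w := by rw [hc m hm z hz]
          _ = _ := by group
      inv_mem' := by
        rintro _ ⟨n, hn, z, hz, rfl⟩
        refine ⟨n⁻¹, inv_mem hn, z⁻¹, inv_mem hz, ?_⟩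
        rw [mul_inv_rev, hc _ (inv_mem hn) _ (inv_mem hz)] }
  have h1 : N ⊔ Z ≤ K := sup_le (fun n hn => ⟨n, hn, 1, one_mem _, by simp⟩) (fun z hz => ⟨1, one_mem _, z, hz, by simp⟩)
  exact h1 hx

theorem sq_sup_of {N Z : Subgroup G} (h : N ≤ centralizer (Z : Set G)) (h1 : ∀ x ∈ N, x ^ 2 = 1) (h2 : ∀ x ∈ Z, x ^ 2 = 1) :
    ∀ x ∈ N ⊔ Z, x ^ 2 = 1 := by
  intro x hx
  obtain ⟨n, hn, z, hz, rfl⟩ := exists_mul_sup h hx
  have h3 : Commute n z := (mem_centralizer_iff.1 (h hn) z hz).symm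
  rw [h3.mul_pow, h1 n hn, h2 z hz, one_mul]

instance {H : Subgroup G} [Finite G] : Finite (Md H) := inferInstanceAs (Finite H)

theorem card_sub {H : Subgroup G} (h : ∀ x ∈ H, x ^ 2 = 1) (K : Subgroup G) :
    letI := addOf h
    Nat.card (sub h K) = Nat.card (H ⊓ K : Subgroup G) := by
  letI := addOf h
  refine Nat.card_congr
    { toFun := fun x => ⟨x.1.val, x.1.mem, x.2⟩
      invFun := fun x => ⟨Md.mk x.1 x.2.1, x.2.2⟩
      left_inv := fun x => Subtype.ext (Md.ext rfl)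
      right_inv := fun x => Subtype.ext rfl }

theorem card_sub_le {H : Subgroup G} (h : ∀ x ∈ H, x ^ 2 = 1) {K : Subgroup G} (hK : K ≤ H) :
    letI := addOf h
    Nat.card (sub h K) = Nat.card K := by
  letI := addOf h
  rw [card_sub, inf_eq_right.2 hK]

theorem mem_sub {H : Subgroup G} (h : ∀ x ∈ H, x ^ 2 = 1) {K : Subgroup G} {x : Md H} :
    letI := addOf h
    x ∈ sub h K ↔ x.val ∈ K := Iff.rfl

theorem val_add {H : Subgroup G} (h : ∀ x ∈ H, x ^ 2 = 1) (x y : Md H) :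
    letI := addOf h
    (x + y).val = x.val * y.val := rfl

theorem val_neg {H : Subgroup G} (h : ∀ x ∈ H, x ^ 2 = 1) (x : Md H) :
    letI := addOf h
    (-x).val = x.val⁻¹ := rfl

theorem val_zero {H : Subgroup G} (h : ∀ x ∈ H, x ^ 2 = 1) :
    letI := addOf h
    (0 : Md H).val = 1 := rfl

theorem val_minus {H : Subgroup G} (h : ∀ x ∈ H, x ^ 2 = 1) (x y : Md H) :
    letI := addOf h
    (x - y).val = x.val * y.val⁻¹ := by
  letI := addOf h
  rw [sub_eq_add_neg]
  rfl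

theorem val_smul {P H : Subgroup G} (h : ∀ x ∈ H, x ^ 2 = 1) (hP : P ≤ normalizer (H : Set G)) (g : P) (x : Md H) :
    letI := addOf h
    letI := actOf h hP
    (g • x).val = (g : G) * x.val * (g : G)⁻¹ := rfl

/-- fixed points of a subgroup -/
theorem fx_eq {P H : Subgroup G} (h : ∀ x ∈ H, x ^ 2 = 1) (hP : P ≤ normalizer (H : Set G)) (B : Subgroup P) :
    letI := addOf h
    letI := actOf h hP
    fx (Md H) B = sub h (centralizer (B.map P.subtype : Set G)) := by
  letI := addOf h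
  letI := actOf h hP
  ext x
  rw [mem_sub, mem_fx, mem_centralizer_iff]
  constructor
  · rintro h1 _ ⟨b, hb, rfl⟩
    have h2 := congrArg Md.val (h1 b hb)
    rw [val_smul] at h2
    exact mul_inv_eq_iff_eq_mul.1 h2
  · intro h1 b hb
    refine Md.ext ?_
    rw [val_smul, mul_inv_eq_iff_eq_mul]
    exact h1 b ⟨b, hb, rfl⟩

/-- pointwise stabiliser -/
theorem mem_cV_iff {P H : Subgroup G} (h : ∀ x ∈ H, x ^ 2 = 1) (hP : P ≤ normalizer (H : Set G)) {V : Subgroup G} (hV : V ≤ H)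
    {g : P} :
    letI := addOf h
    letI := actOf h hP
    g ∈ (cV (sub h V) : Subgroup P) ↔ (g : G) ∈ centralizer (V : Set G) := by
  letI := addOf h
  letI := actOf h hP
  rw [mem_cV, mem_centralizer_iff]
  constructor
  · intro h1 v hv
    have h2 := congrArg Md.val (h1 (Md.mk v (hV hv)) hv)
    rw [val_smul] at h2
    exact (mul_inv_eq_iff_eq_mul.1 h2).symm
  · intro h1 v hv
    refine Md.ext ?_
    rw [val_smul, mul_inv_eq_iff_eq_mul]
    exact (h1 _ hv).symm

theorem le_norm_of_conj {P K : Subgroup G} (h : ∀ g ∈ P, ∀ x ∈ K, g * x * g⁻¹ ∈ K) : P ≤ normalizer (K : Set G) := by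
  intro g hg
  rw [mem_normalizer_iff]
  refine fun x => ⟨h g hg x, fun hx => ?_⟩
  have h1 := h _ (inv_mem hg) _ hx
  have e : g⁻¹ * (g * x * g⁻¹) * g⁻¹⁻¹ = x := by group
  rwa [e] at h1

theorem card_mul_rel {H K : Subgroup G} (h : H ≤ K) : Nat.card H * H.relIndex K = Nat.card K := by
  have := Subgroup.relIndex_mul_relIndex ⊥ H K bot_le h
  rwa [Subgroup.relIndex_bot_left, Subgroup.relIndex_bot_left] at this

namespace GDat

variable [Finite G] {P S A E N V Z1 Z2 : Subgroup G} (D : GDat P S A E N V Z1 Z2)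
include D

theorem sqH : ∀ x ∈ N ⊔ Z1, x ^ 2 = 1 := sq_sup_of D.NZ D.sqN D.sqZ

theorem PH : P ≤ normalizer ((N ⊔ Z1 : Subgroup G) : Set G) := by
  refine le_norm_of_conj fun g hg x hx => ?_
  obtain ⟨n, hn, z, hz, rfl⟩ := exists_mul_sup D.NZ hx
  have e : g * (n * z) * g⁻¹ = (g * n * g⁻¹) * (g * z * g⁻¹) := by group
  rw [e]
  exact mul_mem (le_sup_left (a := N) ((mem_normalizer_iff.1 (D.PN hg) n).1 hn))
    (le_sup_right (a := N) ((mem_normalizer_iff.1 (D.PZ hg) z).1 hz))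

theorem AP : A ≤ P := D.AS.trans D.SP

theorem comm_H : N ⊔ Z1 ≤ centralizer ((N ⊔ Z1 : Subgroup G) : Set G) := by
  intro x hx
  rw [mem_centralizer_iff]
  intro y hy
  letI := grpOf D.sqH
  exact congrArg Subtype.val (mul_comm (⟨y, hy⟩ : (N ⊔ Z1 : Subgroup G)) ⟨x, hx⟩)

/-- `|C_H(C)| |N : C_N(C)| = |H|` -/
theorem card_fx {C : Subgroup G} (hC : C ≤ A) :
    letI := addOf D.sqH
    letI := actOf D.sqH D.PH
    Nat.card (fx (Md (N ⊔ Z1)) (C.subgroupOf P)) * (centralizer (C : Set G)).relIndex N = Nat.card (Md (N ⊔ Z1)) := by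
  letI := addOf D.sqH
  letI := actOf D.sqH D.PH
  have e1 : (C.subgroupOf P).map P.subtype = C := subgroupOf_map_subtype C P |>.trans (inf_eq_left.2 (hC.trans D.AP))
  have e2 : fx (Md (N ⊔ Z1)) (C.subgroupOf P) = sub D.sqH (centralizer (C : Set G)) := by
    rw [fx_eq D.sqH D.PH, e1]
  set F := sub D.sqH (centralizer (C : Set G)) with hF
  have hZF : sub D.sqH Z1 ≤ F := fun x hx => by
    refine mem_centralizer_iff.2 fun c hc => ?_
    exact (mem_centralizer_iff.1 (D.fix (hC hc)) _ hx).symm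
  have htop : sub D.sqH N ⊔ F = ⊤ := by
    rw [eq_top_iff]
    intro x _
    obtain ⟨n, hn, z, hz, hx⟩ := exists_mul_sup D.NZ x.mem
    refine AddSubgroup.mem_sup.2 ⟨Md.mk n (le_sup_left (a := N) hn), hn, Md.mk z (le_sup_right (a := N) hz),
      hZF hz, Md.ext ?_⟩
    rw [val_add]
    exact hx.symm
  have h1 : F.relIndex ⊤ = F.relIndex (sub D.sqH N) := by
    rw [← htop]
    exact AddSubgroup.relIndex_sup_right _ _
  have h2 := card_mul_relIndex (le_top : F ≤ ⊤)
  have h3 : F.relIndex (sub D.sqH N) = (centralizer (C : Set G)).relIndex N := by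
    have h4 := card_mul_relIndex (H := sub D.sqH N ⊓ F) (K := sub D.sqH N) inf_le_left
    have h5 := card_mul_rel (H := N ⊓ centralizer (C : Set G)) (K := N) inf_le_left
    rw [AddSubgroup.inf_relIndex_left] at h4
    rw [Subgroup.inf_relIndex_left] at h5
    have h6 : sub D.sqH N ⊓ F = sub D.sqH (N ⊓ centralizer (C : Set G)) := rfl
    rw [h6, card_sub_le D.sqH (inf_le_left.trans le_sup_left), card_sub_le D.sqH le_sup_left, ← h5] at h4
    exact Nat.eq_of_mul_eq_mul_left Nat.card_pos h4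
  rw [e2, ← h3, ← h1, h2]
  exact Nat.card_congr AddSubgroup.topEquiv.toEquiv

theorem card_sgp {C : Subgroup G} (hC : C ≤ P) : Nat.card (C.subgroupOf P) = Nat.card C :=
  Nat.card_congr (subgroupOfEquivOfLe hC).toEquiv

/-- the count -/
theorem count {C : Subgroup G} (hC : C ≤ A) :
    letI := addOf D.sqH
    letI := actOf D.sqH D.PH
    Nat.card (C.subgroupOf P) * Nat.card (fx (Md (N ⊔ Z1)) (C.subgroupOf P)) ≤
      Nat.card (A.subgroupOf P) * Nat.card (fx (Md (N ⊔ Z1)) (A.subgroupOf P)) ∧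
    (Nat.card (C.subgroupOf P) * Nat.card (fx (Md (N ⊔ Z1)) (C.subgroupOf P)) =
      Nat.card (A.subgroupOf P) * Nat.card (fx (Md (N ⊔ Z1)) (A.subgroupOf P)) →
      (centralizer (N : Set G)).relIndex C = (centralizer (C : Set G)).relIndex N) := by
  letI := addOf D.sqH
  letI := actOf D.sqH D.PH
  have h1 := D.card_fx hC
  have h2 := D.card_fx le_rfl
  have h3 := D.no C hC
  have h4 := D.ex
  rw [D.card_sgp (hC.trans D.AP), D.card_sgp D.AP]
  set fC := Nat.card (fx (Md (N ⊔ Z1)) (C.subgroupOf P)) with hfC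
  set fA := Nat.card (fx (Md (N ⊔ Z1)) (A.subgroupOf P)) with hfA
  set h := Nat.card (Md (N ⊔ Z1)) with hh
  set nC := (centralizer (C : Set G)).relIndex N with hnC
  set nA := (centralizer (A : Set G)).relIndex N with hnA
  set cC := (centralizer (N : Set G)).relIndex C with hcC
  have k1 : Nat.card (C ⊓ centralizer (N : Set G) : Subgroup G) * cC = Nat.card C := by
    have := card_mul_rel (H := C ⊓ centralizer (N : Set G)) (K := C) inf_le_left
    rwa [Subgroup.inf_relIndex_left] at this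
  have k2 : Nat.card (A ⊓ centralizer (N : Set G) : Subgroup G) * nA = Nat.card A := by
    have := card_mul_rel (H := A ⊓ centralizer (N : Set G)) (K := A) inf_le_left
    rwa [Subgroup.inf_relIndex_left, h4] at this
  have k3 : Nat.card (C ⊓ centralizer (N : Set G) : Subgroup G) ≤ Nat.card (A ⊓ centralizer (N : Set G) : Subgroup G) :=
    Subgroup.card_le_of_le (inf_le_inf_right _ hC)
  set kC := Nat.card (C ⊓ centralizer (N : Set G) : Subgroup G) with hkC
  set kA := Nat.card (A ⊓ centralizer (N : Set G) : Subgroup G) with hkA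
  have hpos : 0 < h := Nat.card_pos
  have hnC0 : 0 < nC := by
    rcases Nat.eq_zero_or_pos nC with h0 | h0
    · rw [h0, mul_zero] at h1; omega
    · exact h0
  have hkC0 : 0 < kC := Nat.card_pos
  have e1 : Nat.card A * fA = kA * h := by rw [← k2, ← h2]; ring
  have e2 : Nat.card C * fC * nC = kC * cC * h := by rw [← k1, ← h1]; ring
  have e3 : Nat.card C * fC * nC ≤ kC * h * nC := by
    rw [e2]
    calc kC * cC * h ≤ kC * nC * h := Nat.mul_le_mul_right _ (Nat.mul_le_mul_left _ h3)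
      _ = _ := by ring
  have e4 : Nat.card C * fC ≤ kC * h := Nat.le_of_mul_le_mul_right e3 hnC0
  refine ⟨?_, fun heq => ?_⟩
  · rw [e1]
    exact e4.trans (Nat.mul_le_mul_right _ k3)
  · rw [e1] at heq
    have e5 : kA * h ≤ kC * h := by rw [← heq]; exact e4
    have e6 : kA ≤ kC := Nat.le_of_mul_le_mul_right e5 hpos
    have e7 : kC = kA := le_antisymm k3 e6
    rw [heq, ← e7] at e2
    have e8 : kC * h * nC = kC * h * cC := by rw [e2]; ring
    exact (Nat.eq_of_mul_eq_mul_left (Nat.mul_pos hkC0 hpos) e8).symm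

theorem dat {S' : Sylow 2 P} (hS' : (S' : Subgroup P) = S.subgroupOf P) :
    letI := addOf D.sqH
    letI := actOf D.sqH D.PH
    Dat (sub D.sqH V) (sub D.sqH Z1) (sub D.sqH Z2) (S' : Subgroup P) (A.subgroupOf P) (E.subgroupOf P) := by
  letI := addOf D.sqH
  letI := actOf D.sqH D.PH
  have hVH : V ≤ N ⊔ Z1 := D.VN.trans le_sup_left
  have hZ2H : Z2 ≤ N ⊔ Z1 := D.le.trans hVH
  -- elements of `P` not normalising `Z2`
  have hnn : ∀ (g : P) (u : Md (N ⊔ Z1)), u ∈ sub D.sqH Z2 → g • u ∉ sub D.sqH Z2 → (g : G) ∉ normalizer (Z2 : Set G) :=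
    fun g u hu hgu hg => hgu ((mem_normalizer_iff.1 hg _).1 hu)
  exact
    { two := fun m => Md.ext (by
        rw [val_add, val_zero, ← pow_two]
        exact D.sqH _ m.mem)
      inv := fun g v hv => (mem_normalizer_iff.1 (D.PV g.2) _).1 hv
      inv1 := fun g v hv => (mem_normalizer_iff.1 (D.PZ g.2) _).1 hv
      fix := fun a ha z hz => Md.ext (by
        rw [val_smul, mul_inv_eq_iff_eq_mul]
        exact (mem_centralizer_iff.1 (D.fix ha) _ hz).symm)
      disj := fun z hz hz' => Md.ext (by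
        rw [val_zero]
        have h1 : z.val ∈ V ⊓ Z1 := ⟨hz, hz'⟩
        rw [D.disj] at h1
        exact mem_bot.1 h1)
      le := fun z hz => D.le hz
      ti := fun g u z hu hgu hz hgz => Md.ext (D.ti g g.2 (hnn g u hu hgu) _ hz hgz)
      mv := by
        by_contra hcon
        push Not at hcon
        refine D.mv (le_norm_of_conj fun g hg x hx => ?_)
        exact hcon ⟨g, hg⟩ (Md.mk x (hZ2H hx)) hx
      AS := by
        rw [hS']
        exact fun a ha => D.AS ha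
      AE := fun a ha => D.AE ha
      nE := normal_subgroupOf_of_le_normalizer D.nE
      comm := fun a ha v hv => by
        rw [mem_sub, val_minus, val_smul]
        exact D.comm a ha _ hv
      cent := fun a ha z hz => Md.ext (by
        rw [val_smul, mul_inv_eq_iff_eq_mul]
        exact (mem_centralizer_iff.1 (D.cent ha) _ hz).symm)
      gen := fun s hs hsE => by
        rw [hS'] at hs
        obtain ⟨a, ha, h1⟩ := D.gen s hs hsE
        refine ⟨⟨a, D.AP ha⟩, ha, fun v hv => Md.ext ?_⟩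
        rw [val_smul, val_smul]
        have h2 := mem_centralizer_iff.1 h1 _ hv
        calc (s : G) * v.val * (s : G)⁻¹ = a * ((a⁻¹ * s) * v.val) * (s : G)⁻¹ := by group
          _ = a * (v.val * (a⁻¹ * s)) * (s : G)⁻¹ := by rw [h2]
          _ = _ := by group
      nrm := fun g s hs hV => by
        rw [hS'] at hs ⊢
        have h1 : (s : G) ∈ S ⊓ centralizer (V : Set G) := ⟨hs, (mem_cV_iff D.sqH D.PH hVH).1 hV⟩
        exact ((mem_normalizer_iff.1 (D.nrm g.2) _).1 h1).1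
      reg := fun a ha hav v hv hfix => by
        refine D.reg a ha (fun h1 => ?_) _ hv ?_
        · obtain ⟨w, hw, hne⟩ := hav
          exact hne ((mem_cV_iff D.sqH D.PH hVH).2 h1 w hw)
        · have h2 := congrArg Md.val hfix
          rw [val_smul, mul_inv_eq_iff_eq_mul] at h2
          exact h2
      ab := fun a ha b hb => Subtype.ext (mem_centralizer_iff.1 (D.ab hb) _ ha)
      cardV := by rw [card_sub_le D.sqH hVH, card_sub_le D.sqH hZ2H, D.cardV]
      cardA := by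
        rw [card_sub_le D.sqH hZ2H, D.card_sgp D.AP, D.cardA]
        congr 1
        rw [← D.card_sgp (inf_le_left.trans D.AP)]
        congr 1
        refine congrArg (fun K : Subgroup P => (K : Type u)) ?_
        ext x
        rw [mem_subgroupOf, mem_inf, mem_inf, mem_subgroupOf, mem_cV_iff D.sqH D.PH hVH]
      bd := fun C hC => by
        have h1 : (C.map P.subtype).subgroupOf P = C := by
          rw [subgroupOf, comap_map_eq_self_of_injective P.subtype_injective]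
        have h2 : C.map P.subtype ≤ A := by
          rintro _ ⟨c, hc, rfl⟩
          exact hC hc
        have h3 := (D.count h2).1
        rwa [h1] at h3
      k3 := fun C hC heq n hn => by
        have h1 : (C.map P.subtype).subgroupOf P = C := by
          rw [subgroupOf, comap_map_eq_self_of_injective P.subtype_injective]
        have h2 : C.map P.subtype ≤ A := by
          rintro _ ⟨c, hc, rfl⟩
          exact hC hc
        have h3 := (D.count h2).2
        rw [h1] at h3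
        have h4 := h3 heq
        obtain ⟨m, hm, z, hz, hx⟩ := exists_mul_sup D.NZ n.mem
        have h5 : ∀ b ∈ C.map P.subtype, b * z * b⁻¹ = z := fun b hb => by
          rw [mul_inv_eq_iff_eq_mul]
          exact (mem_centralizer_iff.1 (D.fix (h2 hb)) _ hz).symm
        have h6 : ∀ b ∈ C.map P.subtype, b * m * b⁻¹ * m⁻¹ = b * n.val * b⁻¹ * n.val⁻¹ := fun b hb => by
          rw [hx]
          calc b * m * b⁻¹ * m⁻¹ = (b * m * b⁻¹) * z * z⁻¹ * m⁻¹ := by group
            _ = (b * m * b⁻¹) * (b * z * b⁻¹) * z⁻¹ * m⁻¹ := by rw [h5 b hb]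
            _ = _ := by group
        have h7 := D.k3 _ h2 h4 m hm (by
          intro b hb
          rw [h6 b hb]
          obtain ⟨c, hc, rfl⟩ := hb
          have h8 := hn c hc
          rw [mem_sub, val_minus, val_smul] at h8
          exact h8)
        intro b hb
        refine Md.ext ?_
        rw [val_smul]
        have h8 := h6 b ⟨b, hb, rfl⟩
        have h9 := h7 b ⟨b, hb, rfl⟩
        rw [h9, mul_inv_cancel_right, mul_inv_cancel] at h8
        exact (mul_inv_eq_one.1 h8.symm) }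

/-- **THEOREM I(q)**, one side -/
theorem exists_v {r : G} (hrN : r ∈ N) (hr : ∀ s ∈ S, s * r * s⁻¹ * r⁻¹ ∈ Z1 ⊔ Z2) :
    ∃ v ∈ V, (∀ a ∈ A, a * (r * v) = r * v * a) ∧ ∀ s ∈ S, s * (r * v) * s⁻¹ * (r * v)⁻¹ ∈ Z1 := by
  have : Fact (Nat.Prime 2) := ⟨Nat.prime_two⟩
  letI := addOf D.sqH
  letI := actOf D.sqH D.PH
  have hVH : V ≤ N ⊔ Z1 := D.VN.trans le_sup_left
  have hZ2H : Z2 ≤ N ⊔ Z1 := D.le.trans hVH
  have h2 : IsPGroup 2 (S.subgroupOf P) := D.two.comap_of_injective _ P.subtype_injective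
  let S' : Sylow 2 P := h2.toSylow D.syl
  have hS' : (S' : Subgroup P) = S.subgroupOf P := h2.toSylow_coe D.syl
  have hD := D.dat hS'
  have hrH : r ∈ N ⊔ Z1 := le_sup_left (a := N) hrN
  obtain ⟨c, hcV, hcA, hcS⟩ := hD.exists_c (r := Md.mk r hrH) (by
    intro s hs
    rw [hS'] at hs
    have h3 := hr s hs
    obtain ⟨z1, hz1, z2, hz2, he⟩ := exists_mul_sup
      ((le_sup_right.trans (comm_H D)).trans (centralizer_le hZ2H) : Z1 ≤ centralizer (Z2 : Set G)) h3
    refine AddSubgroup.mem_sup.2 ⟨Md.mk z1 (le_sup_right (a := N) hz1), hz1, Md.mk z2 (hZ2H hz2), hz2, Md.ext ?_⟩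
    rw [val_add, val_minus, val_smul]
    exact he.symm)
  refine ⟨r⁻¹ * c.val, ?_, fun a ha => ?_, fun s hs => ?_⟩
  · rw [mem_sub, val_minus] at hcV
    have h3 : c.val * r⁻¹ = r⁻¹ * c.val :=
      mem_centralizer_iff.1 (comm_H D (inv_mem hrH)) _ c.mem
    rw [← h3]
    exact hcV
  · rw [mul_inv_cancel_left]
    have h3 := hcA 1 ⟨a, D.AP ha⟩ ha
    rw [inv_one, one_mul, mul_one] at h3
    have h4 := congrArg Md.val h3
    rw [val_smul, mul_inv_eq_iff_eq_mul] at h4
    exact h4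
  · rw [mul_inv_cancel_left]
    have h3 := hcS ⟨s, D.SP hs⟩ (by rw [hS']; exact hs)
    rw [mem_sub, val_minus, val_smul] at h3
    exact h3

end GDat

/-! ### Both sides -/

/-- a 2-group `S` fixes a nontrivial coset -/
theorem exists_coset [Finite G] {S K K0 : Subgroup G} (hS : IsPGroup 2 S) (hK : ∀ x ∈ K, x ^ 2 = 1)
    (hne : ¬ K ≤ K0) (hSK : S ≤ normalizer (K : Set G)) (hS0 : S ≤ normalizer (K0 : Set G)) :
    ∃ w ∈ K, w ∉ K0 ∧ ∀ s ∈ S, s * w * s⁻¹ * w⁻¹ ∈ K0 := by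
  have : Fact (Nat.Prime 2) := ⟨Nat.prime_two⟩
  letI := addOf hK
  letI := actOf hK hSK
  set K' := sub hK K0 with hK'
  have hinv : ∀ s : S, K' ≤ K'.comap (DistribSMul.toAddMonoidHom (Md K) s) := fun s x hx =>
    (mem_normalizer_iff.1 (hS0 s.2) _).1 hx
  let act : MulAction S (Md K ⧸ K') :=
    { smul := fun s => QuotientAddGroup.map K' K' (DistribSMul.toAddMonoidHom (Md K) s) (hinv s)
      one_smul := by
        rintro ⟨x⟩
        show QuotientAddGroup.mk ((1 : S) • x) = QuotientAddGroup.mk x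
        rw [one_smul]
      mul_smul := by
        rintro s t ⟨x⟩
        show QuotientAddGroup.mk ((s * t : S) • x) = QuotientAddGroup.mk (s • (t • x))
        rw [mul_smul] }
  have hcard : 2 ∣ Nat.card (Md K ⧸ K') := by
    have h1 : IsPGroup 2 K := by
      intro x
      refine ⟨1, Subtype.ext ?_⟩
      have := hK x.1 x.2
      simpa using this
    obtain ⟨n, hn⟩ := h1.exists_card_eq
    have h2 : Nat.card (Md K) = Nat.card (Md K ⧸ K') * Nat.card K' := AddSubgroup.card_eq_card_quotient_mul_card_addSubgroup _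
    have h3 : Nat.card (Md K) = 2 ^ n := hn
    have h4 : Nat.card (Md K ⧸ K') ∣ 2 ^ n := ⟨_, by rw [← h3, h2]⟩
    obtain ⟨m, -, hm⟩ := (Nat.dvd_prime_pow Nat.prime_two).1 h4
    rcases Nat.eq_zero_or_pos m with h0 | h0
    · exfalso
      rw [h0, pow_zero] at hm
      refine hne fun x hx => ?_
      have h5 : Subsingleton (Md K ⧸ K') := (Nat.card_eq_one_iff_unique.1 hm).1
      have h6 : (QuotientAddGroup.mk (Md.mk x hx) : Md K ⧸ K') = 0 := Subsingleton.elim _ _
      exact (QuotientAddGroup.eq_zero_iff _).1 h6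
    · rw [hm]
      exact dvd_pow_self 2 (by omega)
  obtain ⟨b, hb, hb0⟩ := hS.exists_fixed_point_of_prime_dvd_card_of_fixed_point (α := Md K ⧸ K') hcard
    (a := 0) (by
      intro s
      show QuotientAddGroup.mk (s • (0 : Md K)) = QuotientAddGroup.mk 0
      rw [smul_zero])
  obtain ⟨x, rfl⟩ := QuotientAddGroup.mk_surjective b
  refine ⟨x.val, x.mem, fun h1 => hb0 ?_, fun s hs => ?_⟩
  · exact ((QuotientAddGroup.eq_zero_iff _).2 h1).symm
  · have h1 : (QuotientAddGroup.mk ((⟨s, hs⟩ : S) • x) : Md K ⧸ K') = QuotientAddGroup.mk x := hb ⟨s, hs⟩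
    have h2 := QuotientAddGroup.eq.1 h1.symm
    rw [mem_sub, val_add, val_neg, val_smul] at h2
    have h3 : Commute x.val⁻¹ (s * x.val * s⁻¹) := by
      letI := grpOf hK
      exact congrArg Subtype.val (mul_comm (⟨x.val⁻¹, inv_mem x.mem⟩ : K)
        ⟨s * x.val * s⁻¹, (mem_normalizer_iff.1 (hSK hs) _).1 x.mem⟩)
    rw [h3.eq] at h2
    exact h2

namespace GDat

variable [Finite G] {P S A E N V Z1 Z2 : Subgroup G} (D : GDat P S A E N V Z1 Z2)
include D

theorem exists_mv : ∃ a ∈ A, a ∉ centralizer (V : Set G) := by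
  by_contra hcon
  push Not at hcon
  have h1 : A ⊓ centralizer (V : Set G) = A := inf_eq_left.2 hcon
  have h2 := D.cardA
  rw [h1] at h2
  have h3 : 0 < Nat.card A := Nat.card_pos
  have h4 : Nat.card Z2 = 1 := by
    have : Nat.card Z2 * Nat.card A = 1 * Nat.card A := by rw [← h2, one_mul]
    exact Nat.eq_of_mul_eq_mul_right h3 this
  have h5 : Z2 = ⊥ := Subgroup.card_eq_one.1 h4
  apply D.mv
  rw [h5]
  exact le_norm_of_conj fun g _ x hx => by
    rw [mem_bot] at hx ⊢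
    rw [hx]; simp

/-- one side, `r` centralised by `A` -/
theorem exists_z {r : G} (hrN : r ∈ N) (hrA : ∀ a ∈ A, a * r = r * a) (hr : ∀ s ∈ S, s * r * s⁻¹ * r⁻¹ ∈ Z1 ⊔ Z2) :
    ∃ v ∈ Z2, ∀ s ∈ S, s * (r * v) * s⁻¹ * (r * v)⁻¹ ∈ Z1 := by
  obtain ⟨v, hv, h1, h2⟩ := D.exists_v hrN hr
  obtain ⟨a, ha, hav⟩ := D.exists_mv
  refine ⟨v, D.reg a ha hav v hv ?_, h2⟩
  have h3 := h1 a ha
  have h4 := hrA a ha
  have h5 : r * (a * v) = r * (v * a) := by
    rw [← mul_assoc, ← h4, mul_assoc, h3, mul_assoc]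
  exact mul_left_cancel h5

end GDat

/-- both sides -/
theorem exists_of_two [Finite G] {P P' S A A' E E' N N' V V' Z Z' : Subgroup G}
    (D : GDat P S A E N V Z Z') (D' : GDat P' S A' E' N' V' Z' Z) (hA : A ≤ centralizer (N' : Set G))
    (hA' : A' ≤ centralizer (N : Set G)) (hSZ : S ≤ normalizer (Z : Set G)) (hSZ' : S ≤ normalizer (Z' : Set G))
    {r : G} (hr : r ∈ N ⊓ N') (hrS : ∀ s ∈ S, s * r * s⁻¹ * r⁻¹ ∈ Z ⊔ Z') :
    ∃ z ∈ Z ⊔ Z', r * z ∈ centralizer (S : Set G) := by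
  obtain ⟨v, hv, h1⟩ := D.exists_z hr.1 (fun a ha => (mem_centralizer_iff.1 (hA ha) r hr.2).symm) hrS
  obtain ⟨w, hw, h2⟩ := D'.exists_z hr.2 (fun a ha => (mem_centralizer_iff.1 (hA' ha) r hr.1).symm)
    (fun s hs => by rw [sup_comm]; exact hrS s hs)
  have hrv : ∀ x ∈ Z, ∀ y ∈ N, x * y = y * x := fun x hx y hy => mem_centralizer_iff.1 (D.NZ hy) x hx
  have hrv' : ∀ x ∈ Z', ∀ y ∈ N', x * y = y * x := fun x hx y hy => mem_centralizer_iff.1 (D'.NZ hy) x hx
  have hvw : w * v = v * w := hrv w hw v (D.VN (D.le hv))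
  refine ⟨w * v, mul_mem (le_sup_left (a := Z) hw) (le_sup_right (a := Z) hv), ?_⟩
  rw [mem_centralizer_iff]
  intro s hs
  have h3 : s * (r * (w * v)) * s⁻¹ * (r * (w * v))⁻¹ ∈ Z := by
    -- `= [s, r v w]`
    have h4 := h1 s hs
    have h5 : s * w * s⁻¹ ∈ Z := (mem_normalizer_iff.1 (hSZ hs) w).1 hw
    have h6 : s * (r * v) * s⁻¹ * (r * v)⁻¹ * ((r * v) * (s * w * s⁻¹ * w⁻¹) * (r * v)⁻¹) ∈ Z := by
      refine mul_mem h4 ?_
      have h7 : s * w * s⁻¹ * w⁻¹ ∈ Z := mul_mem h5 (inv_mem hw)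
      have h8 : r * v ∈ N := mul_mem hr.1 (D.VN (D.le hv))
      rw [← hrv _ h7 _ h8, mul_inv_cancel_right]
      exact h7
    have e : s * (r * v) * s⁻¹ * (r * v)⁻¹ * ((r * v) * (s * w * s⁻¹ * w⁻¹) * (r * v)⁻¹) =
        s * (r * (v * w)) * s⁻¹ * (r * (v * w))⁻¹ := by group
    rw [e, ← hvw] at h6
    exact h6
  have h4 : s * (r * (w * v)) * s⁻¹ * (r * (w * v))⁻¹ ∈ Z' := by
    have h4 := h2 s hs
    have h5 : s * v * s⁻¹ ∈ Z' := (mem_normalizer_iff.1 (hSZ' hs) v).1 hv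
    have h6 : s * (r * w) * s⁻¹ * (r * w)⁻¹ * ((r * w) * (s * v * s⁻¹ * v⁻¹) * (r * w)⁻¹) ∈ Z' := by
      refine mul_mem h4 ?_
      have h7 : s * v * s⁻¹ * v⁻¹ ∈ Z' := mul_mem h5 (inv_mem hv)
      have h8 : r * w ∈ N' := mul_mem hr.2 (D'.VN (D'.le hw))
      rw [← hrv' _ h7 _ h8, mul_inv_cancel_right]
      exact h7
    have e : s * (r * w) * s⁻¹ * (r * w)⁻¹ * ((r * w) * (s * v * s⁻¹ * v⁻¹) * (r * w)⁻¹) =
        s * (r * (w * v)) * s⁻¹ * (r * (w * v))⁻¹ := by group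
    rw [e] at h6
    exact h6
  have h5 : s * (r * (w * v)) * s⁻¹ * (r * (w * v))⁻¹ ∈ V ⊓ Z := ⟨D.le h4, h3⟩
  rw [D.disj, mem_bot, mul_inv_eq_one, mul_inv_eq_iff_eq_mul] at h5
  exact h5

/-- **THEOREM I(q)** : `N ∩ N' ≤ Z Z'`. -/
theorem inter_le [Finite G] {P P' S A A' E E' N N' V V' Z Z' : Subgroup G}
    (D : GDat P S A E N V Z Z') (D' : GDat P' S A' E' N' V' Z' Z) (hA : A ≤ centralizer (N' : Set G))
    (hA' : A' ≤ centralizer (N : Set G)) (hSZ : S ≤ normalizer (Z : Set G)) (hSZ' : S ≤ normalizer (Z' : Set G))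
    (hfix : ∀ x ∈ (N ⊓ N') ⊔ (Z ⊔ Z'), x ∈ centralizer (S : Set G) → x ∈ Z ⊔ Z') :
    N ⊓ N' ≤ Z ⊔ Z' := by
  by_contra hcon
  have hSN : S ≤ normalizer ((N ⊓ N' : Subgroup G) : Set G) := le_norm_of_conj fun s hs x hx =>
    ⟨(mem_normalizer_iff.1 (D.PN (D.SP hs)) x).1 hx.1, (mem_normalizer_iff.1 (D'.PN (D'.SP hs)) x).1 hx.2⟩
  have hZZ : Z ≤ centralizer (Z' : Set G) := fun z hz => mem_centralizer_iff.2 fun y hy =>
    (mem_centralizer_iff.1 (D.NZ (D.VN (D.le hy))) z hz).symm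
  have hSZZ : S ≤ normalizer ((Z ⊔ Z' : Subgroup G) : Set G) := le_norm_of_conj fun s hs x hx => by
    obtain ⟨z, hz, w, hw, rfl⟩ := exists_mul_sup hZZ hx
    have e : s * (z * w) * s⁻¹ = (s * z * s⁻¹) * (s * w * s⁻¹) := by group
    rw [e]
    exact mul_mem (le_sup_left (a := Z) ((mem_normalizer_iff.1 (hSZ hs) z).1 hz))
      (le_sup_right (a := Z) ((mem_normalizer_iff.1 (hSZ' hs) w).1 hw))
  have hS1 : S ≤ normalizer (((N ⊓ N') ⊓ (Z ⊔ Z') : Subgroup G) : Set G) := le_norm_of_conj fun s hs x hx =>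
    ⟨(mem_normalizer_iff.1 (hSN hs) x).1 hx.1, (mem_normalizer_iff.1 (hSZZ hs) x).1 hx.2⟩
  obtain ⟨r, hr, hr0, h1⟩ := exists_coset (K := N ⊓ N') (K0 := (N ⊓ N') ⊓ (Z ⊔ Z')) D.two (fun x hx => D.sqN x hx.1)
    (fun h => hcon fun x hx => (h hx).2) hSN hS1
  obtain ⟨z, hz, h2⟩ := exists_of_two D D' hA hA' hSZ hSZ' hr (fun s hs => (h1 s hs).2)
  have h3 := hfix _ (mul_mem (le_sup_left (a := N ⊓ N') hr) (le_sup_right (a := N ⊓ N') hz)) h2
  have h4 : r ∈ Z ⊔ Z' := by
    have := mul_mem h3 (inv_mem hz)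
    rwa [mul_inv_cancel_right] at this
  exact hr0 ⟨hr, h4⟩

end Cfsg.Agent.Omega.KL.ThmIq

end

section


/-!
# THEOREM KL, (P1), second half (#21588 (3), (4)): the irreducible quotient (helper529)

`Low T A V x y` on `(H, M)`: `H = K₀T`, `K₀ = ⟨A^H⟩`; `M₀ = C_M(K₀)`.

* `Lw.le_cv` : every proper submodule of `M` is centralised by `A`;
* **`Lw.sys`** : `Sys` on `(H, M / M₀)`;  **`exists_sys`** : (ML) and `Low` give `Sys`.
-/

set_option autoImplicit false

namespace Cfsg.Agent.Omega.KL.GenB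

open Subgroup Cfsg Cfsg.Agent.ZN Cfsg.Agent.ClassTwoFusion.Quad Cfsg.Agent.Omega.ML.MinFrame
open Cfsg.Agent.Omega.KL.Def Cfsg.Agent.Omega.KL.Mor Cfsg.Agent.Omega.ML.Final Cfsg.Agent.Omega.KL.GenA
open Cfsg.Agent.MinSimple.MinParabolic (IsMinPar le_of_forall)
open Cfsg.Agent.MinSimple.VModule (o2_isPGroup o2_le le_o2 le_normalizer_o2 o2_le_of_sylow)

universe u v

variable {H : Type u} [Group H] [Finite H] {M : Type v} [Group M] [Finite M] [MulDistribMulAction H M]
  {T A : Subgroup H} {V : Subgroup M} {x y : M}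

omit [Finite M] in
/-- `Mn` with `R = H` -/
theorem mn_of (ml : MLK.{u, v}) (h : Low T A V x y) : Mn T A V x y ⊤ := by
  obtain ⟨R, hTR, hnR, -⟩ := exists_min h.toInp
  have hR : R = ⊤ := by
    by_contra hne
    exact hnR (h.low R hTR hne)
  subst hR
  exact { h.toInp with ml := ml, TR := le_top, nR := hnR, mn := fun K hTK _ hne => h.low K hTK hne }

/-- the situation on `M` -/
structure Lw (T A : Subgroup H) (V : Subgroup M) (x y : M) : Prop extends Low T A V x y where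
  ml : MLK.{u, v}

namespace Lw

omit [Finite H] [Finite M] in
theorem stab_mono {W : Subgroup M} (hW : ∀ g : H, ∀ w ∈ W, g • w ∈ W) (sq : ∀ m : M, m * m = 1) (m : M) :
    ∃ S : Subgroup H, ∀ g : H, g ∈ S ↔ g • m * m⁻¹ ∈ W := by
  have hcomm := comm_of_sq sq
  refine ⟨⟨⟨⟨{g : H | g • m * m⁻¹ ∈ W}, ?_⟩, ?_⟩, ?_⟩, fun g => Iff.rfl⟩
  · intro a b ha hb
    have h1 := W.mul_mem (hW a _ hb) ha
    have e : a • (b • m * m⁻¹) * (a • m * m⁻¹) = a • b • m * m⁻¹ := by
      rw [smul_mul', smul_inv']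
      group
    change (a * b) • m * m⁻¹ ∈ W
    rw [mul_smul]
    exact e ▸ h1
  · change (1 : H) • m * m⁻¹ ∈ W
    rw [one_smul, mul_inv_cancel]
    exact W.one_mem
  · intro a ha
    have h1 := W.inv_mem (hW a⁻¹ _ ha)
    rwa [smul_mul', inv_smul_smul, smul_inv', mul_inv_rev, inv_inv] at h1

omit [Finite M] in
/-- the stabiliser of `x W` is in the stabiliser of `x`, `W` a proper submodule -/
theorem stab_le (h : Lw T A V x y) {W : Subgroup M} (hW : ∀ g : H, ∀ w ∈ W, g • w ∈ W) (hne : W ≠ ⊤) {g : H}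
    (hg : g • x * x⁻¹ ∈ W) : g • x = x := by
  obtain ⟨S, hS⟩ := stab_mono hW h.sq x
  have hxW : x ∉ W := by
    intro hx
    apply hne
    rw [eq_top_iff, ← h.gen]
    exact orb_le fun g _ => hW g x hx
  have h1 : S ≤ MulAction.stabilizer H x := by
    refine le_of_forall (S := T) (fun t ht => ?_) (fun g hg => h.nx g hg.2) fun P hP hPS => ?_
    · rw [hS, h.tx ht, mul_inv_cancel]
      exact W.one_mem
    · by_contra hc
      have hm : ∃ p ∈ P, p • x ≠ x := by
        by_contra hc'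
        push Not at hc'
        exact hc fun p hp => hc' p hp
      obtain ⟨p, hp, hpx⟩ := hm
      have hV := (h.uni P hP ⟨p, hp, hpx⟩).1
      have h2 : p • x * x⁻¹ ∈ W := (hS p).1 (hPS hp)
      obtain ⟨q, hq, hqx⟩ := GenTool.trans hP.le h.syl (fun t ht => h.tx ht) h.cV h.xV hV ⟨p, hp, hpx⟩
        (v := p • x * x⁻¹) (V.mul_mem (hV p hp x h.xV) (V.inv_mem h.xV)) (fun h3 => hpx (mul_inv_eq_one.1 h3))
      apply hxW
      have h3 := hW q⁻¹ _ h2
      rwa [← hqx, inv_smul_smul] at h3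
  exact h1 ((hS g).2 hg)

/-- quotients of `M` by proper submodules -/
structure Qt (W : Subgroup M) {M' : Type v} [Group M'] [MulDistribMulAction H M'] (p : M →* M') : Prop where
  surj : Function.Surjective p
  ker : p.ker = W
  eq : ∀ (g : H) (m : M), p (g • m) = g • p m

section quo

variable {W : Subgroup M} {M' : Type v} [Group M'] [MulDistribMulAction H M'] {p : M →* M'}

omit [Finite H] [Finite M] in
theorem Qt.smul_eq (D : Qt (H := H) W p) {g : H} {m : M} : g • p m = p m ↔ g • m * m⁻¹ ∈ W := by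
  rw [← D.eq, ← D.ker, MonoidHom.mem_ker, map_mul, map_inv, mul_inv_eq_one]

omit [Finite H] [Finite M] in
theorem Qt.comap_cv (D : Qt (H := H) W p) (B : Subgroup H) : cv M (B : Set H) ⊔ W ≤ (cv M' (B : Set H)).comap p := by
  refine sup_le (fun m hm b hb => ?_) (fun m hm b hb => ?_)
  · rw [← D.eq, hm b hb]
  · rw [← D.ker, MonoidHom.mem_ker] at hm
    rw [hm, smul_one]

omit [Finite H] in
theorem Qt.index_le (D : Qt (H := H) W p) (B : Subgroup H) :
    (cv M' (B : Set H)).index ≤ (cv M (B : Set H) ⊔ W).index := by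
  rw [← index_comap_of_surjective _ D.surj]
  exact Nat.le_of_dvd (Nat.pos_of_ne_zero index_ne_zero_of_finite) (index_dvd_of_le (D.comap_cv B))

omit [Finite M] in
/-- `H` is faithful on `M / W` -/
theorem faithQ (h : Lw T A V x y) (hW : ∀ g : H, ∀ w ∈ W, g • w ∈ W) (hne : W ≠ ⊤) (D : Qt (H := H) W p) {k : H}
    (hk : ∀ m' : M', k • m' = m') : k = 1 := by
  apply h.faith
  have h1 : k ∈ fxr H (orb (⊤ : Subgroup H) x) := by
    rw [mem_fxr_orb]
    intro g _
    have h2 : (g⁻¹ * k * g) • p x = p x := by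
      rw [mul_smul, mul_smul, hk, inv_smul_smul]
    have h3 := h.stab_le hW hne (D.smul_eq.1 h2)
    calc k • g • x = g • ((g⁻¹ * k * g) • x) := by rw [smul_smul, smul_smul]; congr 1; group
      _ = g • x := by rw [h3]
  rw [h.gen] at h1
  exact fun m => h1 m (mem_top m)

omit [Finite H] [Finite M] in
theorem genQ (h : Lw T A V x y) (D : Qt (H := H) W p) : orb (⊤ : Subgroup H) (p x) = ⊤ := by
  rw [eq_top_iff]
  intro m' _
  obtain ⟨m, rfl⟩ := D.surj m'
  have h1 : orb (⊤ : Subgroup H) x ≤ (orb (⊤ : Subgroup H) (p x)).comap p := orb_le fun g hg => by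
    rw [mem_comap, D.eq]
    exact smul_mem_orb_self hg
  rw [h.gen] at h1
  exact h1 (mem_top m)

/-- **(ML) on `M / W`** -/
theorem no (h : Lw T A V x y) (hW : ∀ g : H, ∀ w ∈ W, g • w ∈ W) (hne : W ≠ ⊤) (D : Qt (H := H) W p)
    {B : Subgroup H} (hB : B ≤ A) : Nat.card B ≤ (cv M' (B : Set H)).index := by
  have hfM : Finite M' := Finite.of_surjective p D.surj
  have h1 := GenTool.no (M := M') h.ml h.KH (T := T) (A := B) (x := p x) (fun m' => by
      obtain ⟨m, rfl⟩ := D.surj m'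
      rw [← map_mul, h.sq, map_one]) h.two h.syl (fun t ht => by rw [← D.eq, h.tx ht]) (h.genQ D)
    (fun b hb => h.el b (hB hb)) (by
      have e : MulAction.stabilizer H (p x) = MulAction.stabilizer H x := by
        ext g
        rw [MulAction.mem_stabilizer_iff, MulAction.mem_stabilizer_iff]
        constructor
        · intro hg
          exact h.stab_le hW hne (D.smul_eq.1 hg)
        · intro hg
          rw [← D.eq, hg]
      rw [e]
      exact hB.trans h.Ax)
  have h2 : fxr H (⊤ : Subgroup M') = ⊥ := by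
    rw [eq_bot_iff]
    intro k hk
    exact mem_bot.2 (h.faithQ hW hne D fun m' => hk m' (mem_top m'))
  rwa [h2, relIndex_bot_left] at h1

/-- **every proper submodule is centralised by `A`**; `A` is exact on `M / W` -/
theorem le_cv (h : Lw T A V x y) (hW : ∀ g : H, ∀ w ∈ W, g • w ∈ W) (hne : W ≠ ⊤) (D : Qt (H := H) W p) :
    W ≤ cv M (A : Set H) ∧ (cv M' (A : Set H)).index = Nat.card A := by
  have h1 := h.no hW hne D le_rfl
  have h2 := D.index_le A
  have h3 : (cv M (A : Set H) ⊔ W).index ∣ (cv M (A : Set H)).index := index_dvd_of_le le_sup_left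
  have h4 := Nat.le_of_dvd (Nat.pos_of_ne_zero index_ne_zero_of_finite) h3
  rw [h.exact] at h4
  refine ⟨?_, by omega⟩
  have h5 : (cv M (A : Set H) ⊔ W).index = (cv M (A : Set H)).index := by rw [h.exact]; omega
  have h6 : cv M (A : Set H) = cv M (A : Set H) ⊔ W := by
    have h7 := relIndex_mul_index (le_sup_left : cv M (A : Set H) ≤ cv M (A : Set H) ⊔ W)
    rw [h5] at h7
    have h8 : 0 < (cv M (A : Set H)).index := Nat.pos_of_ne_zero index_ne_zero_of_finite
    have h9 : (cv M (A : Set H)).relIndex (cv M (A : Set H) ⊔ W) = 1 :=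
      Nat.eq_of_mul_eq_mul_right h8 (by rw [h7, one_mul])
    exact le_antisymm le_sup_left (relIndex_eq_one.1 h9)
  rw [h6]
  exact le_sup_right

end quo

/-- the same for all proper submodules -/
theorem sub_le_cv (h : Lw T A V x y) {W : Subgroup M} (hW : ∀ g : H, ∀ w ∈ W, g • w ∈ W) (hne : W ≠ ⊤) :
    W ≤ cv M (A : Set H) := by
  have hcomm := comm_of_sq h.sq
  have hn : W.Normal := ⟨fun m hm g => by rwa [hcomm g m, mul_inv_cancel_right]⟩
  let _ := modAct W hW
  exact (h.le_cv hW hne (M' := M ⧸ W) (p := QuotientGroup.mk' W)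
    ⟨QuotientGroup.mk'_surjective W, QuotientGroup.ker_mk' W, fun _ _ => rfl⟩).1

/-- `M₀ = C_M(K₀)`, as `{m | A g m = g m for all g}` -/
def M0 (H : Type u) [Group H] (M : Type v) [Group M] [MulDistribMulAction H M] (A : Subgroup H) : Subgroup M where
  carrier := {m | ∀ g : H, ∀ a ∈ A, a • g • m = g • m}
  one_mem' := fun g a _ => by rw [smul_one, smul_one]
  mul_mem' := fun {m n} hm hn g a ha => by rw [smul_mul', smul_mul', hm g a ha, hn g a ha]
  inv_mem' := fun {m} hm g a ha => by rw [smul_inv', smul_inv', hm g a ha]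

omit [Finite H] [Finite M] in
theorem mem_M0 {m : M} : m ∈ M0 H M A ↔ ∀ g : H, ∀ a ∈ A, a • g • m = g • m := Iff.rfl

omit [Finite H] [Finite M] in
theorem M0_inv (g : H) (m : M) (hm : m ∈ M0 H M A) : g • m ∈ M0 H M A := by
  intro k a ha
  rw [← mul_smul k g]
  exact hm _ a ha

theorem le_M0 (h : Lw T A V x y) {W : Subgroup M} (hW : ∀ g : H, ∀ w ∈ W, g • w ∈ W) (hne : W ≠ ⊤) :
    W ≤ M0 H M A := fun w hw g a ha => h.sub_le_cv hW hne (hW g w hw) a ha

omit [Finite H] [Finite M] in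
theorem M0_ne (h : Lw T A V x y) : M0 H M A ≠ ⊤ := by
  intro h1
  apply h.A1
  rw [eq_bot_iff]
  intro a ha
  refine mem_bot.2 (h.faith a fun m => ?_)
  have h2 : m ∈ M0 H M A := h1 ▸ mem_top m
  simpa using h2 1 a ha

omit [Finite M] in
/-- a `T`-fixed vector in `M₀` is `H`-fixed -/
theorem fix_of_mem (h : Lw T A V x y) {m : M} (hm : m ∈ M0 H M A) (hT : ∀ t ∈ T, t • m = m) (g : H) : g • m = m := by
  have hmn := mn_of h.ml h.toLow
  have h1 : Mn.K₀ A ⊤ ⊔ T ≤ MulAction.stabilizer H m := by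
    refine sup_le ?_ fun t ht => hT t ht
    rw [Mn.K₀, closure_le]
    rintro _ ⟨r, -, a, ha, rfl⟩
    change (r * a * r⁻¹) • m = m
    rw [mul_smul, mul_smul, hm r⁻¹ a ha, smul_inv_smul]
  rw [hmn.sup_eq] at h1
  exact h1 (mem_top g)

/-- **the section** -/
theorem sys (h : Lw T A V x y) {M' : Type v} [Group M'] [MulDistribMulAction H M'] {p : M →* M'}
    (D : Qt (H := H) (M0 H M A) p) : ∃ A' : Subgroup H, Sys T A' (V.map p) (p x) (p y) := by
  have hfM : Finite M' := Finite.of_surjective p D.surj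
  have hmn := mn_of h.ml h.toLow
  have hcomm := comm_of_sq h.sq
  have hinv : ∀ g : H, ∀ w ∈ M0 H M A, g • w ∈ M0 H M A := M0_inv
  have hne := h.M0_ne
  have hfx : ∀ m : M, (∀ t ∈ T, t • m = m) → p m = 1 → ∀ g : H, g • m = m := fun m hT hm =>
    h.fix_of_mem (by rwa [← MonoidHom.mem_ker, D.ker] at hm) hT
  have sq' : ∀ m' : M', m' * m' = 1 := fun m' => by
    obtain ⟨m, rfl⟩ := D.surj m'
    rw [← map_mul, h.sq, map_one]
  obtain ⟨P₀, hP₀, -, hP₀x⟩ := hmn.exists_P
  obtain ⟨hV₀, hy₀⟩ := h.uni P₀ hP₀ hP₀x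
  have hx1 : p x ≠ 1 := fun h1 => by
    obtain ⟨r, -, hr⟩ := hmn.movx
    exact hr (hfx x (fun t ht => h.tx ht) h1 r)
  have hy1 : p y ≠ 1 := fun h1 => by
    obtain ⟨r, -, hr⟩ := hmn.movy
    exact hr (hfx y (fun t ht => h.ty ht) h1 r)
  -- a minimal parabolic which moves `p x`
  have hmov : ∀ g : H, g • p x ≠ p x → g • x ≠ x := fun g hg h1 => hg (by rw [← D.eq, h1])
  have hxst : ∀ g : H, g • p x = p x → g • x = x := fun g hg => h.stab_le hinv hne (D.smul_eq.1 hg)
  have hxy : p x ≠ p y := fun h1 => by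
    obtain ⟨q, hq, hqx⟩ := hP₀x
    exact hqx (hxst q (by rw [h1, ← D.eq, hy₀ q hq]))
  have irr : ∀ W : Subgroup M', (∀ k : H, ∀ w ∈ W, k • w ∈ W) → W = ⊥ ∨ W = ⊤ := by
    intro W hW
    by_cases h1 : W.comap p = ⊤
    · right
      rw [eq_top_iff]
      intro m' _
      obtain ⟨m, rfl⟩ := D.surj m'
      have h2 : m ∈ W.comap p := h1 ▸ mem_top m
      exact h2
    · left
      rw [eq_bot_iff]
      intro w hw
      obtain ⟨m, rfl⟩ := D.surj w
      have h2 : m ∈ M0 H M A := h.le_M0 (fun g m hm => by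
        rw [mem_comap, D.eq]
        exact hW g _ hm) h1 (mem_comap.2 hw)
      rw [← D.ker, MonoidHom.mem_ker] at h2
      exact mem_bot.2 h2
  -- no vector is fixed
  have hnf : ∀ m' : M', m' ≠ 1 → MulAction.stabilizer H m' ≠ ⊤ := by
    intro m' hm' h1
    have h2 : ∀ g : H, g • m' = m' := fun g => (h1 ▸ mem_top g : g ∈ MulAction.stabilizer H m')
    rcases irr (zpowers m') (by
      rintro g _ ⟨k, rfl⟩
      refine ⟨k, ?_⟩
      change m' ^ k = g • m' ^ k
      rw [smul_zpow', h2 g]) with h3 | h3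
    · exact hm' (zpowers_eq_bot.1 h3)
    · obtain ⟨r, -, hr⟩ := hmn.movx
      obtain ⟨k, hk⟩ : p x ∈ zpowers m' := h3 ▸ mem_top _
      refine hr (hxst r ?_)
      rw [← hk]
      change r • m' ^ k = m' ^ k
      rw [smul_zpow', h2 r]
  -- the atom
  obtain ⟨-, hexact⟩ := h.le_cv hinv hne D
  have hfin : {C : Subgroup H | C ≤ A ∧ C ≠ ⊥ ∧ (cv M' (C : Set H)).index = Nat.card C}.Finite := Set.toFinite _
  obtain ⟨A', hA'⟩ := hfin.exists_minimal ⟨A, le_rfl, h.A1, hexact⟩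
  obtain ⟨hA'A, hA'1, hA'e⟩ := hA'.prop
  have el' : ∀ a ∈ A', a * a = 1 := fun a ha => h.el a (hA'A ha)
  have hATT : A' ≤ T := hA'A.trans (A_le h.toInp)
  -- stabiliser of `p x * p y`
  have hst : ∀ g : H, g • (p x * p y) = p x * p y → g • p x = p x := by
    have h1 : MulAction.stabilizer H (p x * p y) ≤ MulAction.stabilizer H (p x) := by
      refine le_of_forall (S := T) (fun t ht => ?_) (fun g hg => ?_) fun P hP hPS => ?_
      · change t • (p x * p y) = p x * p y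
        rw [smul_mul', ← D.eq, ← D.eq, h.tx ht, h.ty ht]
      · change g • p x = p x
        rw [← D.eq, h.nx g hg.2]
      · by_contra hc
        have hm : ∃ q ∈ P, q • p x ≠ p x := by
          by_contra hc'
          push Not at hc'
          exact hc fun q hq => hc' q hq
        obtain ⟨q, hq, hqx⟩ := hm
        have h2 := (h.uni P hP ⟨q, hq, hmov q hqx⟩).2 q hq
        have h3 : q • (p x * p y) = p x * p y := hPS hq
        rw [smul_mul', ← D.eq q y, h2] at h3
        exact hqx (mul_right_cancel h3)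
    exact fun g hg => h1 hg
  have htop2 : o2 (⊤ : Subgroup H) = ⊥ := by
    rw [eq_bot_iff]
    intro c hc
    have h1 := o2_le_fxr h.toInp le_top hc
    rw [h.gen] at h1
    exact mem_bot.2 (h.faith c fun m => h1 m (mem_top m))
  have four : 4 ≤ Nat.card A' := by
    have hp : IsPGroup 2 A' := h.two.to_le hATT
    obtain ⟨k, hk⟩ := IsPGroup.iff_card.1 hp
    have hk0 : k ≠ 0 := by
      rintro rfl
      rw [pow_zero] at hk
      exact hA'1 (card_eq_one.1 hk)
    by_cases hk1 : k = 1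
    · exfalso
      subst hk1
      rw [pow_one] at hk
      obtain ⟨t, ht, ht1⟩ : ∃ t ∈ A', t ≠ 1 := by
        by_contra hc
        push Not at hc
        exact hA'1 ((eq_bot_iff).2 fun t ht => mem_bot.2 (hc t ht))
      have h1 : zpowers t = A' := by
        refine eq_of_le_of_card_ge (by rwa [zpowers_le]) ?_
        rw [hk, Nat.card_zpowers, orderOf_eq_prime (p := 2) (by rw [pow_two, el' t ht]) ht1]
      have h2 : (cv M' ({t} : Set H)).index = 2 := by
        rw [QData.cv_singleton, h1, hA'e, hk]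
      have h3 := TC.TT.not_trans (M := M') sq' hst (A := o2 (MulAction.stabilizer H (p x)))
        (B := o2 (MulAction.stabilizer H (p y))) (o2_isPGroup _) (o2_isPGroup _)
        (fun g hg a ha => conj_mem_of_le (le_normalizer_o2 _) hg ha)
        (fun g hg a ha => conj_mem_of_le (le_normalizer_o2 _) hg ha)
        (h.low _ (fun s hs => by
          change s • p x = p x
          rw [← D.eq, h.tx hs]) (hnf _ hx1) (hA'A ht))
        (h.low _ (fun s hs => by
          change s • p y = p y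
          rw [← D.eq, h.ty hs]) (hnf _ hy1) (hA'A ht)) (el' t ht) (fun h3 => ht1 (by
          have h4 : t ∈ o2 (⊤ : Subgroup H) := by
            have h5 : pCore 2 H ≤ o2 (⊤ : Subgroup H) := le_o2 le_top (Lib.Cores.pCore_isPGroup 2)
              (le_normalizer_of fun g _ n hn => (Lib.Cores.pCore_normal 2).conj_mem n hn g)
            exact h5 h3
          rw [htop2] at h4
          exact mem_bot.1 h4))
      omega
    · rw [hk]
      calc 4 = 2 ^ 2 := rfl
        _ ≤ 2 ^ k := Nat.pow_le_pow_right (by norm_num) (by omega)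
  refine ⟨A', ?_⟩
  exact
  { sq := sq'
    faith := fun k hk => h.faithQ hinv hne D hk
    gen := h.genQ D
    two := h.two
    syl := h.syl
    x1 := hx1
    y1 := hy1
    xy := hxy
    nx := fun g hg => by rw [← D.eq, h.nx g hg]
    ny := fun g hg => by rw [← D.eq, h.ny g hg]
    cV := by
      have hVf : Finite V := Nat.finite_of_card_ne_zero (by rw [h.cV]; norm_num)
      rw [← h.cV]
      refine Nat.card_congr (Equiv.ofBijective (fun w : V => (⟨p w, mem_map_of_mem p w.2⟩ : V.map p)) ⟨?_, ?_⟩).symm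
      · intro a b hab
        by_contra hne'
        have h1 : p a = p b := congrArg Subtype.val hab
        have h2 : (a : M) * (b : M)⁻¹ ∈ M0 H M A := by
          rw [← D.ker, MonoidHom.mem_ker, map_mul, map_inv, h1, mul_inv_cancel]
        obtain ⟨q, hq, hqx⟩ := GenTool.trans hP₀.le h.syl (fun t ht => h.tx ht) h.cV h.xV hV₀ hP₀x
          (v := (a : M) * (b : M)⁻¹) (V.mul_mem a.2 (V.inv_mem b.2)) (fun h3 => hne' (Subtype.ext (mul_inv_eq_one.1 h3)))
        have h3 := hinv q⁻¹ _ h2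
        rw [← hqx, inv_smul_smul, ← D.ker, MonoidHom.mem_ker] at h3
        exact hx1 h3
      · rintro ⟨_, w, hw, rfl⟩
        exact ⟨⟨w, hw⟩, rfl⟩
    xV := mem_map_of_mem p h.xV
    uni := by
      rintro P hP ⟨q, hq, hqx⟩
      obtain ⟨h1, h2⟩ := h.uni P hP ⟨q, hq, hmov q hqx⟩
      constructor
      · rintro r hr _ ⟨w, hw, rfl⟩
        exact ⟨r • w, h1 r hr w hw, D.eq r w⟩
      · intro r hr
        rw [← D.eq, h2 r hr]
    el := el'
    A1 := hA'1
    exact := hA'e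
    atom := by
      intro C hC hC1 hC2
      refine lt_of_le_of_ne (h.no hinv hne D (hC.trans hA'A)) fun h1 => hC2 ?_
      exact le_antisymm hC (hA'.le_of_le ⟨hC.trans hA'A, hC1, h1.symm⟩ hC)
    irr := irr
    AT := hATT
    four := four
    low := fun R hTR hR => hA'A.trans (h.low R hTR hR)
    nmax := by
      rintro ⟨N, hN, hmax⟩
      have h1 : IsMinPar T (⊤ : Subgroup H) := by
        refine ⟨le_top, fun h2 => ?_, N, lt_top_iff_ne_top.2 hN, fun K hK hK1 => hmax K hK hK1.ne⟩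
        obtain ⟨r, -, hr⟩ := hmn.movx
        exact hr (h.nx r (h2 (mem_top r)))
      obtain ⟨r, -, hr⟩ := hmn.movx
      obtain ⟨s, -, hs⟩ := hmn.movy
      exact hs ((h.uni ⊤ h1 ⟨r, mem_top r, hr⟩).2 s (mem_top s))
    KH := h.KH }

end Lw

/-- **(P1), second half** -/
theorem exists_sys (ml : MLK.{u, v}) (h : Low T A V x y) :
    ∃ (M' : Type v) (_ : Group M') (_ : Finite M') (_ : MulDistribMulAction H M') (A' : Subgroup H) (V' : Subgroup M')
      (x' y' : M'), Sys T A' V' x' y' := by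
  have hL : Lw T A V x y := { h with ml := ml }
  have hcomm := comm_of_sq h.sq
  have hn : (Lw.M0 H M A).Normal := ⟨fun m hm g => by rwa [hcomm g m, mul_inv_cancel_right]⟩
  let _ := modAct (H := H) (Lw.M0 H M A) Lw.M0_inv
  obtain ⟨A', hs⟩ := hL.sys (M' := M ⧸ Lw.M0 H M A) (p := QuotientGroup.mk' (Lw.M0 H M A))
    ⟨QuotientGroup.mk'_surjective _, QuotientGroup.ker_mk' _, fun _ _ => rfl⟩
  exact ⟨M ⧸ Lw.M0 H M A, inferInstance, inferInstance, inferInstance, A', _, _, _, hs⟩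

end Cfsg.Agent.Omega.KL.GenB

namespace Cfsg.Agent.Omega.KL

open Def GenA GenB Cfsg.Agent.Omega.ML.Final

universe u v

/-- **(P1)** : the input of THEOREM KL gives the middle, for a section. -/
theorem exists_sys_of_inp {H : Type u} [Group H] [Finite H] {M : Type v} [Group M] [Finite M] [MulDistribMulAction H M]
    {T A : Subgroup H} {V : Subgroup M} {x y : M} (ml : MLK.{u, v}) (h : Inp T A V x y) :
    ∃ (H' : Type u) (_ : Group H') (_ : Finite H') (M' : Type v) (_ : Group M') (_ : Finite M')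
      (_ : MulDistribMulAction H' M') (T' A' : Subgroup H') (V' : Subgroup M') (x' y' : M'), Sys T' A' V' x' y' := by
  obtain ⟨H', _, _, M', _, _, _, T', A', V', x', y', hl⟩ := exists_low ml h
  obtain ⟨M'', _, _, _, A'', V'', x'', y'', hs⟩ := exists_sys ml hl
  exact ⟨H', inferInstance, inferInstance, M'', inferInstance, inferInstance, inferInstance, _, _, _, _, _, hs⟩

end Cfsg.Agent.Omega.KL

end

end
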